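import Cfsg.Agent.MQ.A.Glob.Main
import Cfsg.Agent.MK.C.Main_m3
import Cfsg.Agent.MK.Y.CoreI_m3
import Cfsg.Agent.H980.GSet
import Cfsg.Agent.SignalizersComponents.Components
import Cfsg.Agent.S0887
import Cfsg.Agent.CharactersDeep.IrrEquiv
import Cfsg.Agent.FastGrp
import Cfsg.Agent.Prune
set_option linter.all false
prune_inst 0x7ffdfafb39e8b1dedfff7fbffed4dffbf5acafffe6fffdfbffe471bffbdf6b23cfc56bb5ebf852fe9ff7e3b414f87b43fdffceffea6bdc7ffffd5fb41ffbff8ffdf6b50951d0902406282ffe03f0470e6f3ffff7fffffffffffffff7ffffffffffffe3feffff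
open scoped Cfsg.Agent.FastGrp

-- part: MO/C/Pair
section
/-!
# MO, step C: the pair lemma (helper76, from `MK`)

* `pair` : if a character `Ψ` of a group `F` with two homomorphisms `p₁ : F →* A`, `p₂ : F →* B` restricts to `Θ₁` on
  `ker p₂` and to `conj Θ₂` on `ker p₁`, then the characters over `Θ₁` and over `Θ₂` correspond.
-/

set_option autoImplicit false
set_option maxHeartbeats 400000

namespace Cfsg.Agent.MO.C

open Cfsg Subgroup
open Cfsg.Agent.Characters.Core Cfsg.Agent.Characters.Clifford Cfsg.Agent.H672 Cfsg.Agent.H829.GowDesc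
open Cfsg.Agent.MK (deg_comp)
open Cfsg.Agent.MK.C (Nr comb sum_reg)
open scoped ComplexConjugate

/-- **the pair lemma** -/
theorem pair {r : ℕ} [Fact r.Prime] {A B F D E : Type} [Group A] [Group B] [Group F] [Group D] [Group E] [Finite A] [Finite B] [Finite F]
    [Finite D] [Finite E] (p : F →* A) (q : F →* B) (s : D →* F) (t : E →* F) (hs : s.range = q.ker)
    (ht : t.range = p.ker) {φ : A → D → D} {φ' : B → E → E} (hφ : Nr (p.comp s) φ) (hφ' : Nr (q.comp t) φ')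
    {Θ : D → ℂ} {Θ' : E → ℂ} (hΘ : IsIrrCharacter D Θ) (hΘ' : IsIrrCharacter E Θ')
    (hp : ∀ a, a ∈ p.range ↔ ∀ d, Θ (φ a d) = Θ d) (hq : ∀ b, b ∈ q.range ↔ ∀ e, Θ' (φ' b e) = Θ' e)
    {Ψ : F → ℂ} (hΨ : IsCharacter F Ψ) (h1 : ∀ d, Ψ (s d) = Θ d * conj (Θ' 1)) (h2 : ∀ e, Ψ (t e) = Θ 1 * conj (Θ' e))
    (ho : ¬ r ∣ p.range.index * charDegree Θ ↔ ¬ r ∣ q.range.index * charDegree Θ') :
    Nat.card {χ : A → ℂ // PI r A χ ∧ Over (p.comp s) χ Θ} = Nat.card {η : B → ℂ // PI r B η ∧ Over (q.comp t) η Θ'} := by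
  classical
  have := Fintype.ofFinite F
  have := Fintype.ofFinite D
  have := Fintype.ofFinite E
  have := finite_irr (G := A)
  have := finite_irr (G := B)
  have := Fintype.ofFinite (IrrCharacter A)
  have := Fintype.ofFinite (IrrCharacter B)
  choose M hM using fun (χ : IrrCharacter A) (η : IrrCharacter B) => classInner_isNat
    (isCharacter_mul hΨ (isCharacter_comp q (isIrr_isCharacter η.2))) (isCharacter_comp p (isIrr_isCharacter χ.2))
  have hM' : ∀ (χ : IrrCharacter A) (η : IrrCharacter B),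
      classInner ((fun x => conj (Ψ x)) * ((χ : A → ℂ) ∘ p)) ((η : B → ℂ) ∘ q) = M χ η := fun χ η => by
    rw [← Complex.conj_natCast, ← hM, classInner_def, classInner_def, map_mul, map_inv₀, map_natCast, map_sum]
    congr 1
    refine Finset.sum_congr rfl fun x _ => ?_
    simp only [Pi.mul_apply, map_mul, Complex.conj_conj]
    ring
  choose a ha using fun χ : IrrCharacter A =>
    classInner_isNat (isCharacter_comp (p.comp s) (isIrr_isCharacter χ.2)) (isIrr_isCharacter hΘ)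
  choose b hb using fun η : IrrCharacter B =>
    classInner_isNat (isCharacter_comp (q.comp t) (isIrr_isCharacter η.2)) (isIrr_isCharacter hΘ')
  have hc : 0 < p.range.index * charDegree Θ :=
    Nat.mul_pos (Nat.pos_of_ne_zero index_ne_zero_of_finite) (charDegree_pos hΘ)
  have hc' : 0 < q.range.index * charDegree Θ' :=
    Nat.mul_pos (Nat.pos_of_ne_zero index_ne_zero_of_finite) (charDegree_pos hΘ')
  have s1 : ∀ η, ∑ χ : IrrCharacter A, charDegree (χ : A → ℂ) * M χ η = p.range.index * charDegree Θ * b η := fun η => by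
    have h := sum_reg p t ht (Ψ * ((η : B → ℂ) ∘ q))
    simp only [hM] at h
    have h' : (Nat.card E : ℂ)⁻¹ * ∑ d, (Ψ * ((η : B → ℂ) ∘ q)) (t d) = charDegree Θ * b η := by
      rw [← hb, classInner_def, coe_charDegree hΘ, mul_left_comm, Finset.mul_sum _ _ (Θ 1)]
      congr 1
      refine Finset.sum_congr rfl fun e _ => ?_
      simp only [Pi.mul_apply, h2, Function.comp, MonoidHom.comp_apply]
      ring
    rw [h', ← mul_assoc] at h
    exact_mod_cast h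
  have s2 : ∀ χ, ∑ η : IrrCharacter B, charDegree (η : B → ℂ) * M χ η = q.range.index * charDegree Θ' * a χ := fun χ => by
    have h := sum_reg q s hs ((fun x => conj (Ψ x)) * ((χ : A → ℂ) ∘ p))
    simp only [hM'] at h
    have h' : (Nat.card D : ℂ)⁻¹ * ∑ d, ((fun x => conj (Ψ x)) * ((χ : A → ℂ) ∘ p)) (s d) = charDegree Θ' * a χ := by
      rw [← ha, classInner_def, coe_charDegree hΘ', mul_left_comm, Finset.mul_sum _ _ (Θ' 1)]
      congr 1
      refine Finset.sum_congr rfl fun e _ => ?_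
      simp only [Pi.mul_apply, h1, Function.comp, MonoidHom.comp_apply, map_mul, Complex.conj_conj]
      ring
    rw [h', ← mul_assoc] at h
    exact_mod_cast h
  have d1 : ∀ χ, a χ ≠ 0 → charDegree (χ : A → ℂ) = a χ * (p.range.index * charDegree Θ) := fun χ h =>
    hφ.deg_eq χ.2 hΘ hp (ha χ) h
  have d2 : ∀ η, b η ≠ 0 → charDegree (η : B → ℂ) = b η * (q.range.index * charDegree Θ') := fun η h =>
    hφ'.deg_eq η.2 hΘ' hq (hb η) h
  let P : ℕ → Prop := fun n => ¬ r ∣ n ∧ ¬ r ∣ p.range.index * charDegree Θ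
  have e1 : Nat.card {χ : A → ℂ // PI r A χ ∧ Over (p.comp s) χ Θ} = Nat.card {χ // P (a χ) ∧ a χ ≠ 0} := by
    have k : ∀ χ : IrrCharacter A, Over (p.comp s) χ Θ ↔ a χ ≠ 0 := fun χ => by rw [over_iff, ha, Nat.cast_ne_zero]
    exact Nat.card_congr
      { toFun := fun χ => ⟨⟨χ.1, χ.2.1.1⟩, nd_mul.1 (d1 _ ((k ⟨χ.1, χ.2.1.1⟩).1 χ.2.2) ▸ χ.2.1.2),
          (k ⟨χ.1, χ.2.1.1⟩).1 χ.2.2⟩
        invFun := fun χ => ⟨χ.1.1, ⟨χ.1.2, (d1 _ χ.2.2).symm ▸ nd_mul.2 χ.2.1⟩, (k χ.1).2 χ.2.2⟩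
        left_inv := fun _ => rfl
        right_inv := fun _ => rfl }
  have e2 : Nat.card {η : B → ℂ // PI r B η ∧ Over (q.comp t) η Θ'} = Nat.card {η // P (b η) ∧ b η ≠ 0} := by
    have k : ∀ η : IrrCharacter B, Over (q.comp t) η Θ' ↔ b η ≠ 0 := fun η => by rw [over_iff, hb, Nat.cast_ne_zero]
    have k' : ∀ n, P n ↔ ¬ r ∣ n * (q.range.index * charDegree Θ') := fun n => by rw [nd_mul, ← ho]
    exact Nat.card_congr
      { toFun := fun η => ⟨⟨η.1, η.2.1.1⟩, (k' _).2 (d2 _ ((k ⟨η.1, η.2.1.1⟩).1 η.2.2) ▸ η.2.1.2),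
          (k ⟨η.1, η.2.1.1⟩).1 η.2.2⟩
        invFun := fun η => ⟨η.1.1, ⟨η.1.2, (d2 _ η.2.2).symm ▸ (k' _).1 η.2.1⟩, (k η.1).2 η.2.2⟩
        left_inv := fun _ => rfl
        right_inv := fun _ => rfl }
  rw [e1, e2]
  exact le_antisymm
    (comb M _ a _ b hc hc' (fun χ => charDegree_pos χ.2) (fun η => charDegree_pos η.2) s1 s2 d1 d2 P)
    (comb (fun η χ => M χ η) _ b _ a hc' hc (fun η => charDegree_pos η.2) (fun χ => charDegree_pos χ.2) s2 s1 d2 d1 P)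

end Cfsg.Agent.MO.C
end

-- part: MO/H/Cnt
section
/-!
# MO, box H: transport of the counts (helper76, from `MK`)

* `kk_congr`, `kk_sub`, `kk_conj`;
* `ih_sub` : the induction hypothesis for a subgroup `H` and a `p`-subgroup of `p'`-index in `H`;
* `ih_eq` : two subgroups with the same normaliser of a common Sylow `p`-subgroup;
* `deg_par` : `χ 1 ≡ mu χ` modulo `p`, `kk_of_core`.
-/

set_option autoImplicit false
set_option maxHeartbeats 400000

namespace Cfsg.Agent.MO.H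

open Cfsg Subgroup Cfsg.Agent.ODD.Red
open Cfsg.Agent.MK (Ov Fa YD mu Core)
open Cfsg.Agent.MK.H (relIndex_lt exists_mu card_eq_of_fib finite_sub)

variable {p : ℕ}

theorem oi_comp {A B : Type} [Group A] [Group B] (e : A ≃* B) {ψ : B → ℂ} (h : PI p B ψ) : PI p A fun a => ψ (e a) :=
  ⟨isIrr_comp' e.toMonoidHom e.surjective h.1, by
    rw [charDegree_congr (χ := fun a => ψ (e a)) (ψ := ψ) (by simp only [map_one])]
    exact h.2⟩

/-- transport along an isomorphism -/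
theorem kk_congr {G G' : Type} [Group G] [Group G'] {H Z : Subgroup G} {K Z' : Subgroup G'} {l : G → ℂ} {l' : G' → ℂ}
    (e : H ≃* K) (hZ : ∀ h : H, (h : G) ∈ Z ↔ (e h : G') ∈ Z') (hl : ∀ h : H, (h : G) ∈ Z → l h = l' (e h)) :
    kk p H Z l = kk p K Z' l' := by
  refine Nat.card_congr
    { toFun := fun ψ => ⟨fun k => ψ.1 (e.symm k), oi_comp e.symm ψ.2.1, fun k hk => ?_⟩
      invFun := fun ψ => ⟨fun h => ψ.1 (e h), oi_comp e ψ.2.1, fun h hh => ?_⟩
      left_inv := fun ψ => Subtype.ext (funext fun h => by simp)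
      right_inv := fun ψ => Subtype.ext (funext fun h => by simp) }
  · have h1 : ((e.symm k : H) : G) ∈ Z := by rw [hZ, e.apply_symm_apply]; exact hk
    have h2 := ψ.2.2 _ h1
    rw [hl _ h1, e.apply_symm_apply] at h2
    simpa only [map_one] using h2
  · have h2 := ψ.2.2 _ ((hZ h).1 hh)
    rw [← hl _ hh] at h2
    simpa only [map_one] using h2

variable {G : Type} [Group G]

theorem kk_sub (H Z : Subgroup G) (l : G → ℂ) (K : Subgroup H) :
    kk p K (Z.subgroupOf H) (fun h => l h) = kk p (K.map H.subtype) Z l :=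
  kk_congr (K.equivMapOfInjective H.subtype H.subtype_injective) (fun _ => Iff.rfl) fun _ _ => rfl

theorem kk_conj {Z : Subgroup G} (hZ : Z ≤ center G) (l : G → ℂ) (H : Subgroup G) (g : G) :
    kk p (H.map (MulAut.conj g).toMonoidHom) Z l = kk p H Z l := by
  have h1 : ∀ z ∈ Z, ∀ a : G, a * z * a⁻¹ = z := fun z hz a => by
    rw [mem_center_iff.1 (hZ hz) a, mul_inv_cancel_right]
  refine (kk_congr (H.equivMapOfInjective _ (MulAut.conj g).injective) (fun h => ?_) fun h hh => ?_).symm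
  · change _ ↔ g * h * g⁻¹ ∈ Z
    refine ⟨fun hh => by rwa [h1 _ hh], fun hh => ?_⟩
    have h2 := h1 _ hh g⁻¹
    rw [show g⁻¹ * (g * h * g⁻¹) * g⁻¹⁻¹ = (h : G) by group] at h2
    rwa [h2]
  · change _ = l (g * h * g⁻¹)
    rw [h1 _ hh]

variable [hp : Fact p.Prime]

/-- the count for the normaliser of a Sylow subgroup does not depend on it -/
theorem kk_sylow [Finite G] {Z : Subgroup G} (hZ : Z ≤ center G) (l : G → ℂ) (P Q : Sylow p G) :
    kk p (normalizer ((P : Subgroup G) : Set G)) Z l = kk p (normalizer ((Q : Subgroup G) : Set G)) Z l := by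
  obtain ⟨g, rfl⟩ := MulAction.exists_smul_eq G P Q
  rw [← kk_conj hZ l _ g]
  congr 1
  exact map_equiv_normalizer_eq (P : Subgroup G) (MulAut.conj g)

/-- **the induction hypothesis for a subgroup** -/
theorem ih_sub [Finite G] {n : ℕ} (ih : IH p n) {Z H P : Subgroup G} (hZ : Z ≤ center G) (hn : Z.relIndex H < n)
    (hPH : P ≤ H) (hP : IsPGroup p P) (ho : ¬ p ∣ P.relIndex H) (l : G → ℂ) :
    kk p H Z l = kk p (normalizer (P : Set G) ⊓ H) Z l := by
  have h1 : Z.subgroupOf H ≤ center H := fun z hz => mem_center_iff.2 fun g =>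
    Subtype.ext (mem_center_iff.1 (hZ hz) g)
  have h2 : IsPGroup p (P.subgroupOf H) := hP.comap_subtype
  have h3 := ih H (Z.subgroupOf H) h1 hn (fun h => l h) (h2.toSylow (show ¬ p ∣ (P.subgroupOf H).index from ho))
  rw [kk_sub, kk_sub, IsPGroup.toSylow_coe, ← subgroupOf_normalizer_eq hPH, subgroupOf_map_subtype,
    ← MonoidHom.range_eq_map, range_subtype] at h3
  exact h3

/-- `H' ≤ H` contains the normaliser in `H` of a Sylow `p`-subgroup -/
theorem ih_eq [Finite G] {Z H H' P : Subgroup G} (ih : IH p Z.index) (hZ : Z ≤ center G) (hZH : Z ≤ H') (hH : H ≠ ⊤)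
    (hle : H' ≤ H) (hPH : P ≤ H) (hP : IsPGroup p P) (ho : ¬ p ∣ P.relIndex H) (hN : normalizer (P : Set G) ⊓ H ≤ H')
    (l : G → ℂ) : kk p H Z l = kk p H' Z l := by
  have h1 : P ≤ H' := (le_inf le_normalizer hPH).trans hN
  have h2 : ¬ p ∣ P.relIndex H' := by
    rw [← relIndex_mul_relIndex P H' H h1 hle, nd_mul] at ho
    exact ho.1
  have h3 : H' ≠ ⊤ := fun h => hH (top_le_iff.1 (h ▸ hle))
  rw [ih_sub ih hZ (relIndex_lt (hZH.trans hle) hH) hPH hP ho, ih_sub ih hZ (relIndex_lt hZH h3) h1 hP h2]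
  congr 1
  exact le_antisymm (le_inf inf_le_left hN) (inf_le_inf_left _ hle)

/-- a `p`-subgroup of `p'`-index in `H` above a given `p`-subgroup -/
theorem exists_syl [Finite G] {H Q : Subgroup G} (hQH : Q ≤ H) (hQ : IsPGroup p Q) :
    ∃ P : Subgroup G, Q ≤ P ∧ P ≤ H ∧ IsPGroup p P ∧ ¬ p ∣ P.relIndex H := by
  obtain ⟨S, hS⟩ := (hQ.comap_subtype (K := H)).exists_le_sylow
  refine ⟨(S : Subgroup H).map H.subtype, fun x hx => ⟨⟨x, hQH hx⟩, hS hx, rfl⟩, map_subtype_le _, S.2.map _, ?_⟩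
  rw [relIndex, subgroupOf, comap_map_eq_self_of_injective H.subtype_injective]
  exact S.not_dvd_index

/-- a `p`-subgroup of `p'`-index is maximal -/
theorem eq_of_odd [Finite G] {K Q P : Subgroup G} (ho : ¬ p ∣ Q.relIndex K) (hQP : Q ≤ P) (hPK : P ≤ K)
    (hP : IsPGroup p P) : P ≤ Q := by
  rw [← relIndex_mul_relIndex Q P K hQP hPK, nd_mul] at ho
  obtain ⟨k, hk⟩ := hP.index (Q.subgroupOf P)
  rw [← relIndex_eq_one]
  have h1 := ho.1
  rw [relIndex, hk] at h1 ⊢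
  rcases k with _ | k
  · rfl
  · exact absurd (dvd_pow_self p k.succ_ne_zero) h1

/-! ### congruence -/

/-- sums of invariant functions modulo `p` -/
theorem sum_par {D A : Type} [Group D] [Fintype A] [MulAction D A] (hD : IsPGroup p D) (f : A → ℂ)
    (hf : ∀ (d : D) a, f (d • a) = f a) (hi : ∀ a, IsIntegral ℤ (f a)) (a₀ : A)
    (h0 : ∀ a, (∀ d : D, d • a = a) ↔ a = a₀) : ∃ b : ℂ, IsIntegral ℤ b ∧ ∑ a, f a = f a₀ + p * b := by
  classical
  have key : ∀ c : ℂ, ∃ k : ℕ, (Finset.univ.filter fun a => f a = c).card = (if f a₀ = c then 1 else 0) + p * k := by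
    intro c
    let S : SubMulAction D A := { carrier := {a | f a = c}, smul_mem' := fun d a ha => (hf d a).trans ha }
    have h1 := hD.card_modEq_card_fixedPoints S
    have h2 : Nat.card S = (Finset.univ.filter fun a => f a = c).card := by
      exact Nat.subtype_card _ fun a => by
        rw [Finset.mem_filter]; exact ⟨fun h => h.2, fun h => ⟨Finset.mem_univ _, h⟩⟩
    have h3 : Nat.card (MulAction.fixedPoints D S) = if f a₀ = c then 1 else 0 := by
      split_ifs with h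
      · rw [Nat.card_eq_one_iff_exists]
        refine ⟨⟨⟨a₀, h⟩, fun d => Subtype.ext ((h0 a₀).2 rfl d)⟩, fun y => Subtype.ext (Subtype.ext ?_)⟩
        exact (h0 _).1 fun d => congrArg Subtype.val (y.2 d)
      · have : IsEmpty (MulAction.fixedPoints D S) := ⟨fun y => h (by
          rw [← (h0 _).1 fun d => congrArg Subtype.val (y.2 d)]; exact y.1.2)⟩
        exact Nat.card_of_isEmpty
    rw [h2, h3] at h1
    have h4 : (if f a₀ = c then 1 else 0) ≤ (Finset.univ.filter fun a => f a = c).card := by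
      split_ifs with h
      · exact Finset.card_pos.2 ⟨a₀, Finset.mem_filter.2 ⟨Finset.mem_univ _, h⟩⟩
      · exact Nat.zero_le _
    obtain ⟨k, hk⟩ := (Nat.modEq_iff_dvd' h4).1 h1.symm
    exact ⟨k, by omega⟩
  choose k hk using key
  refine ⟨∑ c ∈ Finset.univ.image f, (k c : ℂ) * c, IsIntegral.sum _ fun c hc => ?_, ?_⟩
  · obtain ⟨a, -, rfl⟩ := Finset.mem_image.1 hc
    exact (isIntegral_algebraMap (R := ℤ) (x := (k (f a) : ℤ))).mul (hi a)
  · rw [Finset.sum_comp (fun c : ℂ => c) f, Finset.mul_sum]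
    have h5 : f a₀ = ∑ c ∈ Finset.univ.image f, if f a₀ = c then c else 0 := by
      rw [Finset.sum_ite_eq, if_pos (Finset.mem_image_of_mem f (Finset.mem_univ _))]
    rw [h5, ← Finset.sum_add_distrib]
    refine Finset.sum_congr rfl fun c _ => ?_
    rw [hk c, nsmul_eq_mul]
    split_ifs <;> push_cast <;> ring

omit hp in
theorem dvd_of_integral (h0 : p ≠ 0) {a : ℤ} {b : ℂ} (hb : IsIntegral ℤ b) (h : (a : ℂ) = p * b) : (p : ℤ) ∣ a := by
  have h2 : (p : ℂ) ≠ 0 := Nat.cast_ne_zero.2 h0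
  have h3 : (p : ℚ) ≠ 0 := Nat.cast_ne_zero.2 h0
  have h1 : b = algebraMap ℚ ℂ ((a : ℚ) / p) := by
    rw [map_div₀, map_intCast, h, map_natCast, mul_div_cancel_left₀ _ h2]
  rw [h1, isIntegral_algebraMap_iff (algebraMap ℚ ℂ).injective, IsIntegrallyClosed.isIntegral_iff] at hb
  obtain ⟨y, hy⟩ := hb
  refine ⟨y, ?_⟩
  have h4 : (a : ℚ) = p * y := by
    rw [eq_intCast] at hy
    rw [hy, mul_div_cancel₀ _ h3]
  exact_mod_cast h4

/-- **the congruence of the degree** -/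
theorem deg_par [Finite G] {H U D : Subgroup G} (hUH : U ≤ H) (hDH : D ≤ H) (hD : IsPGroup p D)
    (hn : ∀ d ∈ D, ∀ u ∈ U, d * u * d⁻¹ ∈ U) (hC : ∀ u ∈ U, (∀ d ∈ D, d * u * d⁻¹ = u) → u = 1)
    (ho : ¬ p ∣ Nat.card U) {χ : H → ℂ} (hχ : IsCharacter H χ) {d : ℕ} (hd : mu H U χ = d) :
    ¬ p ∣ charDegree χ ↔ ¬ p ∣ d := by
  have := Fintype.ofFinite (U.subgroupOf H)
  let _ : MulAction D (U.subgroupOf H) :=
    { smul := fun a u => ⟨⟨a, hDH a.2⟩ * u * (⟨a, hDH a.2⟩ : H)⁻¹, hn a a.2 _ u.2⟩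
      one_smul := fun u => Subtype.ext (Subtype.ext (show ((1 : D) : G) * _ * ((1 : D) : G)⁻¹ = _ by simp))
      mul_smul := fun a b u => Subtype.ext (Subtype.ext (show ((a * b : D) : G) * _ * ((a * b : D) : G)⁻¹ =
        (a : G) * ((b : G) * _ * (b : G)⁻¹) * (a : G)⁻¹ by simp [mul_assoc])) }
  obtain ⟨b, hb, h1⟩ := sum_par (A := U.subgroupOf H) hD (fun u => χ u)
    (fun a u => Characters.Core.isCharacter_isClassFunction hχ _ _)
    (fun u => Characters.GaloisBasic.isIntegral_apply hχ _) 1 fun u =>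
      ⟨fun h => Subtype.ext (Subtype.ext (hC _ u.2 fun a ha =>
        congrArg (fun x : U.subgroupOf H => ((x : H) : G)) (h ⟨a, ha⟩))), fun h a => by
          rw [h]
          exact Subtype.ext (Subtype.ext (show (a : G) * 1 * (a : G)⁻¹ = 1 by simp))⟩
  have h2 : Nat.card (U.subgroupOf H) = Nat.card U := Nat.card_congr (subgroupOfEquivOfLe hUH).toEquiv
  have h3 : (Nat.card U : ℂ) ≠ 0 := Nat.cast_ne_zero.2 Nat.card_pos.ne'
  rw [mu, finsum_eq_sum_of_fintype, h1, h2, inv_mul_eq_iff_eq_mul₀ h3, OneMemClass.coe_one, apply_one hχ] at hd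
  have h4 := dvd_of_integral hp.out.ne_zero (a := (Nat.card U : ℤ) * d - charDegree χ) hb (by push_cast; rw [← hd]; ring)
  refine not_congr ⟨fun h => ?_, fun h => ?_⟩
  · have h5 := (dvd_sub_left (Int.natCast_dvd_natCast.2 h)).1 h4
    rw [← Nat.cast_mul, Int.natCast_dvd_natCast, hp.out.dvd_mul] at h5
    exact h5.resolve_left ho
  · exact Int.natCast_dvd_natCast.1 ((dvd_sub_right ((Int.natCast_dvd_natCast.2 h).mul_left _)).1 h4)

/-- **the count from the deformation theorem** -/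
theorem kk_of_core (hc : Core) [Finite G] {H U N Z D : Subgroup G} {len : G → ℕ} (y : YD H U N len)
    (hZ : Z ≤ center G) (hZN : Z ≤ N) (hZl : ∀ z ∈ Z, len z = 0) (hDH : D ≤ H) (hD : IsPGroup p D)
    (hn : ∀ d ∈ D, ∀ u ∈ U, d * u * d⁻¹ ∈ U) (hC : ∀ u ∈ U, (∀ d ∈ D, d * u * d⁻¹ = u) → u = 1)
    (ho : ¬ p ∣ Nat.card U) (l : G → ℂ) : kk p H Z l = kk p N Z l := by
  have i1 : Finite {ψ : H → ℂ // PI p H ψ ∧ Ov H Z l ψ} := finite_sub fun _ h => h.1.1
  have i2 : Finite {ψ : N → ℂ // PI p N ψ ∧ Ov N Z l ψ} := finite_sub fun _ h => h.1.1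
  have hm : ∀ χ : {ψ : H → ℂ // PI p H ψ ∧ Ov H Z l ψ}, ∃ d : ℕ, mu H U χ.1 = d := fun χ =>
    exists_mu H U (Characters.Core.isIrr_isCharacter χ.2.1.1)
  choose f hf using hm
  have hp : ∀ {χ : H → ℂ}, IsIrrCharacter H χ → ∀ {d : ℕ}, mu H U χ = d → (¬ p ∣ charDegree χ ↔ ¬ p ∣ d) :=
    fun h _ hd => deg_par y.uH hDH hD hn hC ho (Characters.Core.isIrr_isCharacter h) hd
  refine card_eq_of_fib f (fun ψ : {ψ : N → ℂ // PI p N ψ ∧ Ov N Z l ψ} => charDegree ψ.1) fun d => ?_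
  by_cases hd : ¬ p ∣ d
  · have h1 := hc G H U N Z len l d y hZ hZN hZl (by rintro rfl; exact hd (dvd_zero p))
    refine (Nat.card_congr ?_).trans (h1.trans (Nat.card_congr ?_))
    · exact
        { toFun := fun χ => ⟨χ.1.1, χ.1.2.1.1, χ.1.2.2, by rw [hf, χ.2]⟩
          invFun := fun χ => ⟨⟨χ.1, ⟨χ.2.1, (hp χ.2.1 χ.2.2.2).2 hd⟩, χ.2.2.1⟩,
            Nat.cast_injective (R := ℂ) (by rw [← hf]; exact χ.2.2.2)⟩
          left_inv := fun _ => rfl
          right_inv := fun _ => rfl }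
    · exact
        { toFun := fun χ => ⟨⟨χ.1, ⟨χ.2.1, χ.2.2.2.symm ▸ hd⟩, χ.2.2.1⟩, χ.2.2.2⟩
          invFun := fun χ => ⟨χ.1.1, χ.1.2.1.1, χ.1.2.2, χ.2⟩
          left_inv := fun _ => rfl
          right_inv := fun _ => rfl }
  · have e1 : IsEmpty {a // f a = d} := ⟨fun a => hd (a.2 ▸ (hp a.1.2.1.1 (hf a.1)).1 a.1.2.1.2)⟩
    have e2 : IsEmpty {b : {ψ : N → ℂ // PI p N ψ ∧ Ov N Z l ψ} // charDegree b.1 = d} :=
      ⟨fun a => hd (a.2 ▸ a.1.2.1.2)⟩
    rw [Nat.card_of_isEmpty, Nat.card_of_isEmpty]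

end Cfsg.Agent.MO.H
end

-- part: MO/H/Hat
section
/-!
# MO, box H: the hat lemmas, `stepI`, `stepF` (helper76, from `MK`)

* `pr c : (ι → X) →* G` the product map, `PP c Q` the product of the copies of `Q`, `LL c = Z ⊔ ⨆ range (e i)`;
* `a_e_self`, `a_e_ne`, `a_pr`, `π_pr`, `conj_pr`, `π_Z`, `a_Z`, `mem_LL`, `mem_hat_LL`, `exists_hat`;
* `exists_P` : a Sylow `p`-subgroup of `hat Λ` whose normaliser lies in `hat (Nm Λ Q)`.
-/

set_option autoImplicit false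
set_option maxHeartbeats 400000

namespace Cfsg.Agent.MO.H

open Cfsg Subgroup
open Cfsg.Agent.MK (Ov Fa Cj In Nm St rs Supp conj_map)
open Cfsg.Agent.MK.H (relIndex_lt)

variable {p : ℕ} {X : Type} [Group X]

theorem noncomm {Γ : Subgroup (MulAut X)} (s : Sit p X Γ) : ∃ x y : X, x * y ≠ y * x := by
  by_contra h
  push Not at h
  have := s.qs.2
  obtain ⟨a, b, hab⟩ := exists_pair_ne (X ⧸ center X)
  obtain ⟨a, rfl⟩ := QuotientGroup.mk_surjective a
  obtain ⟨b, rfl⟩ := QuotientGroup.mk_surjective b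
  exact hab (QuotientGroup.eq.2 (mem_center_iff.2 fun g => h _ _))

theorem conj_eq_one {z : X} : MulAut.conj z = 1 ↔ z ∈ center X := by
  rw [mem_center_iff, MulEquiv.ext_iff]
  refine forall_congr' fun g => ?_
  rw [MulAut.conj_apply, MulAut.one_apply, mul_inv_eq_iff_eq_mul, eq_comm]

theorem conj_eq_conj {x y : X} : MulAut.conj x = MulAut.conj y ↔ y⁻¹ * x ∈ center X := by
  rw [← conj_eq_one, map_mul, map_inv, inv_mul_eq_one, eq_comm]

theorem mul_conj (α : MulAut X) (x : X) : α * MulAut.conj x = MulAut.conj (α x) * α := by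
  rw [conj_map, inv_mul_cancel_right]

variable {Γ : Subgroup (MulAut X)} {G : Type} [Group G] {Z : Subgroup G} {ι : Type} (c : Conf p Γ G Z ι)

theorem mem_hat {Λ : Subgroup (MulAut X)} {g : G} : g ∈ c.hat Λ ↔ ∀ i, c.a g i ∈ Λ := Iff.rfl

theorem hat_mono {Λ Λ' : Subgroup (MulAut X)} (h : Λ ≤ Λ') : c.hat Λ ≤ c.hat Λ' := fun _ hg i => h (hg i)

theorem hat_top : c.hat Γ = ⊤ := eq_top_iff.2 fun g _ i => c.mem g i

theorem hat_ne_top {Λ : Subgroup (MulAut X)} (h : Λ ≤ Γ) (hne : Λ ≠ Γ) : c.hat Λ ≠ ⊤ := fun ht => by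
  obtain ⟨i⟩ := c.ne
  refine hne (le_antisymm h fun α hα => ?_)
  obtain ⟨g, -, rfl⟩ := c.onto i i α hα
  exact (ht ▸ mem_top g : g ∈ c.hat Λ) i

theorem a_e_self (i : ι) (x : X) : c.a (c.e i x) i = MulAut.conj x := by
  ext y
  have h := c.ha (c.e i x) i y
  rw [c.pie, Equiv.Perm.one_apply, ← map_inv, ← map_mul, ← map_mul] at h
  exact (c.inj i h).symm

theorem a_e_ne {i j : ι} (h : i ≠ j) (x : X) : c.a (c.e i x) j = 1 := by
  ext y
  have h1 := c.ha (c.e i x) j y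
  rw [c.pie, Equiv.Perm.one_apply, c.comm i j h, mul_inv_cancel_right] at h1
  exact (c.inj j h1).symm

theorem e_mem_Z {z : X} (hz : z ∈ center X) (i : ι) : c.e i z ∈ Z :=
  c.ker _ (c.pie i z) fun j => by
    by_cases h : i = j
    · subst h
      rw [a_e_self, conj_eq_one.2 hz]
    · exact a_e_ne c h z

theorem π_cen (hX : ∃ x y : X, x * y ≠ y * x) {z : G} (hz : z ∈ center G) : c.π z = 1 := by
  obtain ⟨x, y, hxy⟩ := hX
  ext i
  by_contra h
  have h1 := c.ha z i x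
  rw [← mem_center_iff.1 hz, mul_inv_cancel_right] at h1
  apply hxy
  apply c.inj i
  rw [map_mul, map_mul, h1]
  exact c.comm _ _ h _ _

theorem a_cen (hX : ∃ x y : X, x * y ≠ y * x) {z : G} (hz : z ∈ center G) (i : ι) : c.a z i = 1 := by
  ext x
  have h1 := c.ha z i x
  rw [← mem_center_iff.1 hz, mul_inv_cancel_right, π_cen c hX hz, Equiv.Perm.one_apply] at h1
  exact (c.inj i h1).symm

theorem Z_le_hat (hX : ∃ x y : X, x * y ≠ y * x) (Λ : Subgroup (MulAut X)) : Z ≤ c.hat Λ := fun z hz i => by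
  rw [a_cen c hX (c.cen hz)]
  exact one_mem _

theorem a_inv' (g : G) (i : ι) : c.a g⁻¹ (c.π g i) = (c.a g i)⁻¹ := by
  rw [c.a_inv, map_inv, Equiv.Perm.inv_def, Equiv.symm_apply_apply]

/-- two elements with the same action differ by an element of `Z` -/
theorem mul_inv_mem_Z {g h : G} (h1 : c.π g = c.π h) (h2 : ∀ i, c.a g i = c.a h i) : g * h⁻¹ ∈ Z :=
  c.ker _ (by rw [map_mul, map_inv, h1, mul_inv_cancel]) fun i => by
    rw [c.a_mul, c.a_inv, h2, mul_inv_cancel]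

variable [Fintype ι]

/-- the product map -/
noncomputable def pr : (ι → X) →* G := MonoidHom.noncommPiCoprod c.e fun i j h x y => c.comm i j h x y

theorem pr_single [DecidableEq ι] (i : ι) (x : X) : pr c (Pi.mulSingle i x) = c.e i x :=
  MonoidHom.noncommPiCoprod_mulSingle c.e i x

theorem range_pr : (pr c).range = ⨆ i, (c.e i).range := MonoidHom.noncommPiCoprod_range c.e

theorem π_pr (x : ι → X) : c.π (pr c x) = 1 := by
  classical
  have h : c.π.comp (pr c) = 1 := MonoidHom.pi_ext fun i y => by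
    rw [MonoidHom.comp_apply, pr_single, c.pie, MonoidHom.one_apply]
  exact DFunLike.congr_fun h x

theorem a_pr (x : ι → X) (i : ι) : c.a (pr c x) i = MulAut.conj (x i) := by
  classical
  let f : (ι → X) →* MulAut X := MonoidHom.mk' (fun x => c.a (pr c x) i) fun x y => by
    rw [map_mul, c.a_mul, π_pr, Equiv.Perm.one_apply]
  have h : f = MulAut.conj.comp (Pi.evalMonoidHom (fun _ : ι => X) i) := MonoidHom.pi_ext fun j y => by
    change c.a (pr c (Pi.mulSingle j y)) i = MulAut.conj ((Pi.mulSingle j y : ι → X) i)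
    rw [pr_single]
    by_cases hj : j = i
    · subst hj
      rw [a_e_self, Pi.mulSingle_eq_same]
    · rw [a_e_ne c hj, Pi.mulSingle_eq_of_ne' hj, map_one]
  exact DFunLike.congr_fun h x

/-- conjugation of products -/
theorem conj_pr (g : G) {x y : ι → X} (h : ∀ i, y (c.π g i) = c.a g i (x i)) : g * pr c x * g⁻¹ = pr c y := by
  classical
  let φ : (ι → X) →* (ι → X) := MonoidHom.mk' (fun x j => c.a g ((c.π g)⁻¹ j) (x ((c.π g)⁻¹ j))) fun x y => by
    ext j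
    simp only [Pi.mul_apply, map_mul]
  have h1 : (MulAut.conj g).toMonoidHom.comp (pr c) = (pr c).comp φ := MonoidHom.pi_ext fun j z => by
    change g * pr c (Pi.mulSingle j z) * g⁻¹ = pr c (φ (Pi.mulSingle j z))
    rw [pr_single, c.ha, ← pr_single]
    congr 1
    ext k
    obtain ⟨k, rfl⟩ := (c.π g).surjective k
    change _ = c.a g ((c.π g)⁻¹ (c.π g k)) ((Pi.mulSingle j z : ι → X) ((c.π g)⁻¹ (c.π g k)))
    rw [Equiv.Perm.inv_def, Equiv.symm_apply_apply]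
    by_cases hk : k = j
    · subst hk
      rw [Pi.mulSingle_eq_same, Pi.mulSingle_eq_same]
    · rw [Pi.mulSingle_eq_of_ne hk, Pi.mulSingle_eq_of_ne fun e => hk ((c.π g).injective e), map_one]
  have h2 : φ x = y := by
    ext k
    obtain ⟨k, rfl⟩ := (c.π g).surjective k
    change c.a g ((c.π g)⁻¹ (c.π g k)) (x ((c.π g)⁻¹ (c.π g k))) = _
    rw [Equiv.Perm.inv_def, Equiv.symm_apply_apply, h]
  rw [← h2]
  exact DFunLike.congr_fun h1 x

omit [Fintype ι] in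
theorem exists_conj (g : G) (x : ι → X) : ∃ y : ι → X, ∀ i, y (c.π g i) = c.a g i (x i) :=
  ⟨fun j => c.a g ((c.π g).symm j) (x ((c.π g).symm j)), fun i => by simp only [Equiv.symm_apply_apply]⟩

theorem a_pr_mul (x : ι → X) (g : G) (i : ι) : c.a (pr c x * g) i = MulAut.conj (x (c.π g i)) * c.a g i := by
  rw [c.a_mul, a_pr]

theorem a_mul_pr (g : G) (x : ι → X) (i : ι) : c.a (g * pr c x) i = c.a g i * MulAut.conj (x i) := by
  rw [c.a_mul, a_pr, π_pr, Equiv.Perm.one_apply]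

theorem cen_of_pr_eq {x y : ι → X} (h : pr c x = pr c y) (i : ι) : (y i)⁻¹ * x i ∈ center X := by
  rw [← conj_eq_conj, ← a_pr c, h, a_pr]

/-- the product of the copies of `Q` -/
noncomputable def PP (Q : Subgroup X) : Subgroup G := (Subgroup.pi Set.univ fun _ : ι => Q).map (pr c)

theorem mem_PP {Q : Subgroup X} {g : G} : g ∈ PP c Q ↔ ∃ x : ι → X, (∀ i, x i ∈ Q) ∧ pr c x = g :=
  ⟨fun ⟨x, h, e⟩ => ⟨x, fun i => h i trivial, e⟩, fun ⟨x, h, e⟩ => ⟨x, fun i _ => h i, e⟩⟩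

theorem pr_mem_PP {Q : Subgroup X} {x : ι → X} (h : ∀ i, x i ∈ Q) : pr c x ∈ PP c Q := (mem_PP c).2 ⟨x, h, rfl⟩

theorem e_mem_PP {Q : Subgroup X} {x : X} (h : x ∈ Q) (i : ι) : c.e i x ∈ PP c Q := by
  classical
  rw [← pr_single]
  refine pr_mem_PP c fun j => ?_
  by_cases hj : j = i
  · subst hj
    rwa [Pi.mulSingle_eq_same]
  · rw [Pi.mulSingle_eq_of_ne hj]
    exact one_mem _

theorem PP_mono {Q Q' : Subgroup X} (h : Q ≤ Q') : PP c Q ≤ PP c Q' := fun _ hg => by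
  obtain ⟨x, hx, rfl⟩ := (mem_PP c).1 hg
  exact pr_mem_PP c fun i => h (hx i)

theorem PP_le_hat {Q : Subgroup X} {Λ : Subgroup (MulAut X)} (h : Q ≤ In Λ) : PP c Q ≤ c.hat Λ := fun _ hg i => by
  obtain ⟨x, hx, rfl⟩ := (mem_PP c).1 hg
  rw [a_pr]
  exact h (hx i)

theorem conj_mem_PP {Q : Subgroup X} {g : G} (hg : ∀ i, ∀ x ∈ Q, c.a g i x ∈ Q) {u : G} (hu : u ∈ PP c Q) :
    g * u * g⁻¹ ∈ PP c Q := by
  obtain ⟨x, hx, rfl⟩ := (mem_PP c).1 hu
  obtain ⟨y, hy⟩ := exists_conj c g x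
  rw [conj_pr c g hy]
  refine pr_mem_PP c fun j => ?_
  obtain ⟨i, rfl⟩ := (c.π g).surjective j
  rw [hy]
  exact hg i _ (hx i)

theorem card_PP_dvd (Q : Subgroup X) : Nat.card (PP c Q) ∣ Nat.card Q ^ Fintype.card ι := by
  refine (card_map_dvd _ _).trans (dvd_of_eq ?_)
  have e : (Subgroup.pi Set.univ fun _ : ι => Q) ≃ (ι → Q) :=
    { toFun := fun x i => ⟨x.1 i, x.2 i trivial⟩
      invFun := fun x => ⟨fun i => x i, fun i _ => (x i).2⟩
      left_inv := fun _ => rfl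
      right_inv := fun _ => rfl }
  rw [Nat.card_congr e, Nat.card_fun, Nat.card_eq_fintype_card (α := ι)]

theorem isPGroup_PP [hp : Fact p.Prime] [Finite X] [Finite G] {Q : Subgroup X} (hQ : IsPGroup p Q) : IsPGroup p (PP c Q) := by
  obtain ⟨k, hk⟩ := IsPGroup.iff_card.1 hQ
  have h := card_PP_dvd c Q
  rw [hk, ← pow_mul] at h
  obtain ⟨j, -, hj⟩ := (Nat.dvd_prime_pow hp.out).1 h
  exact IsPGroup.of_card hj

theorem cop_PP [Fact p.Prime] {Q : Subgroup X} (hQ : ¬ p ∣ Nat.card Q) : ¬ p ∣ Nat.card (PP c Q) :=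
  nd_of_dvd (nd_pow hQ _) (card_PP_dvd c Q)

/-- the subgroup `Z * ∏ X i` -/
def LL : Subgroup G := Z ⊔ ⨆ i, (c.e i).range

theorem mem_LL {g : G} : g ∈ LL c ↔ ∃ z ∈ Z, ∃ x : ι → X, g = z * pr c x := by
  have : Z.Normal := ⟨fun z hz a => by rwa [mem_center_iff.1 (c.cen hz) a, mul_inv_cancel_right]⟩
  rw [LL, ← range_pr, mem_sup_of_normal_left]
  exact ⟨fun ⟨z, hz, _, ⟨x, rfl⟩, e⟩ => ⟨z, hz, x, e.symm⟩, fun ⟨z, hz, x, e⟩ => ⟨z, hz, _, ⟨x, rfl⟩, e.symm⟩⟩

theorem mem_LL_of {g : G} (h1 : c.π g = 1) (h2 : ∀ i, ∃ x, c.a g i = MulAut.conj x) : g ∈ LL c := by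
  choose x hx using h2
  exact (mem_LL c).2 ⟨g * (pr c x)⁻¹, mul_inv_mem_Z c (by rw [h1, π_pr]) fun i => by rw [hx, a_pr], x, by group⟩

theorem normal_LL : (LL c).Normal := ⟨fun g hg a => by
  obtain ⟨z, hz, x, rfl⟩ := (mem_LL c).1 hg
  obtain ⟨y, hy⟩ := exists_conj c a x
  refine (mem_LL c).2 ⟨z, hz, y, ?_⟩
  rw [← conj_pr c a hy, ← mul_assoc, mem_center_iff.1 (c.cen hz) a]
  group⟩

theorem π_LL (hX : ∃ x y : X, x * y ≠ y * x) {g : G} (hg : g ∈ LL c) : c.π g = 1 := by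
  obtain ⟨z, hz, x, rfl⟩ := (mem_LL c).1 hg
  rw [map_mul, π_cen c hX (c.cen hz), π_pr, mul_one]

theorem mem_hat_LL (hX : ∃ x y : X, x * y ≠ y * x) {Λ : Subgroup (MulAut X)} {g : G} :
    g ∈ c.hat Λ ⊓ LL c ↔ ∃ z ∈ Z, ∃ x : ι → X, (∀ i, x i ∈ In Λ) ∧ g = z * pr c x := by
  have h : ∀ z ∈ Z, ∀ (x : ι → X) i, c.a (z * pr c x) i = MulAut.conj (x i) := fun z hz x i => by
    rw [a_mul_pr, a_cen c hX (c.cen hz), one_mul]
  constructor
  · rintro ⟨h1, h2⟩
    obtain ⟨z, hz, x, rfl⟩ := (mem_LL c).1 h2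
    exact ⟨z, hz, x, fun i => (h z hz x i ▸ h1 i : MulAut.conj (x i) ∈ Λ), rfl⟩
  · rintro ⟨z, hz, x, hx, rfl⟩
    exact ⟨fun i => (h z hz x i).symm ▸ hx i, (mem_LL c).2 ⟨z, hz, x, rfl⟩⟩

theorem hat_inf_LL (hX : ∃ x y : X, x * y ≠ y * x) (Λ : Subgroup (MulAut X)) :
    c.hat Λ ⊓ LL c = Z ⊔ PP c (In Λ) := by
  have : Z.Normal := ⟨fun z hz a => by rwa [mem_center_iff.1 (c.cen hz) a, mul_inv_cancel_right]⟩
  ext g
  rw [mem_hat_LL c hX, mem_sup_of_normal_left]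
  exact ⟨fun ⟨z, hz, x, hx, e⟩ => ⟨z, hz, _, pr_mem_PP c hx, e.symm⟩, fun ⟨z, hz, y, hy, e⟩ => by
    obtain ⟨x, hx, rfl⟩ := (mem_PP c).1 hy
    exact ⟨z, hz, x, hx, e.symm⟩⟩

/-- every element of `Λ` is induced by an element of `hat Λ` -/
theorem exists_hat {Λ : Subgroup (MulAut X)} (h : Supp Γ Λ) (i j : ι) {α : MulAut X} (hα : α ∈ Λ) :
    ∃ g ∈ c.hat Λ, c.π g i = j ∧ c.a g i = α := by
  classical
  obtain ⟨g, h1, h2⟩ := c.onto i j α (h.le hα)
  have h3 : ∀ k, ∃ x : X, MulAut.conj x * c.a g k ∈ Λ ∧ (k = i → x = 1) := fun k => by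
    by_cases hk : k = i
    · exact ⟨1, by rwa [map_one, one_mul, hk, h2], fun _ => rfl⟩
    · obtain ⟨x, β, hβ, e⟩ := h.sup _ (c.mem g k)
      exact ⟨x⁻¹, by rwa [e, map_inv, inv_mul_cancel_left], fun e => absurd e hk⟩
  choose x hx hx' using h3
  refine ⟨pr c (fun k => x ((c.π g).symm k)) * g, fun k => ?_, by rw [map_mul, π_pr, one_mul, h1], ?_⟩
  · rw [a_pr_mul, Equiv.symm_apply_apply]
    exact hx k
  · rw [a_pr_mul, Equiv.symm_apply_apply, hx' i rfl, map_one, one_mul, h2]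

variable [hp : Fact p.Prime]

theorem cop_relIndex_PP [Finite X] [Finite G] {Q K : Subgroup X} (hQ : Q ≤ K) (ho : ¬ p ∣ Q.relIndex K) :
    ¬ p ∣ (PP c Q).relIndex (Z ⊔ PP c K) := by
  have : Z.Normal := ⟨fun z hz a => by rwa [mem_center_iff.1 (c.cen hz) a, mul_inv_cancel_right]⟩
  rw [← relIndex_mul_relIndex _ (PP c K) _ (PP_mono c hQ) le_sup_right, nd_mul]
  constructor
  · let f : (ι → K) →* G := (pr c).comp (MonoidHom.compLeft K.subtype ι)
    have h1 : f.range = PP c K := by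
      ext g
      rw [mem_PP]
      exact ⟨fun ⟨x, e⟩ => ⟨fun i => x i, fun i => (x i).2, e⟩, fun ⟨x, hx, e⟩ => ⟨fun i => ⟨x i, hx i⟩, e⟩⟩
    have h2 : (Subgroup.pi Set.univ fun _ : ι => Q.subgroupOf K) ≤ (PP c Q).comap f := fun x hx =>
      pr_mem_PP c fun i => hx i trivial
    have h3 := index_dvd_of_le h2
    rw [index_comap, h1, index_pi] at h3
    refine nd_of_dvd ?_ h3
    rw [Finset.prod_const]
    exact nd_pow ho _
  · have h1 := relIndex_mul_relIndex (Z ⊓ PP c K) (PP c K) (Z ⊔ PP c K) inf_le_right le_sup_right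
    rw [← relIndex_mul_relIndex (Z ⊓ PP c K) Z (Z ⊔ PP c K) inf_le_left le_sup_left, relIndex_sup_left,
      inf_relIndex_right, mul_comm] at h1
    rw [Nat.eq_of_mul_eq_mul_right (Nat.pos_of_ne_zero index_ne_zero_of_finite) h1]
    exact nd_of_dvd c.cop (relIndex_dvd_card _ _)

theorem mem_of_e_mem [Finite X] (hodd : ¬ p ∣ Nat.card (center X)) {Q : Subgroup X} (hQ : IsPGroup p Q) {y : X}
    (hy : ∃ k : ℕ, y ^ p ^ k = 1) {j : ι} (h : c.e j y ∈ PP c Q) : y ∈ Q := by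
  obtain ⟨q, hq, e⟩ := (mem_PP c).1 h
  have h1 : (q j)⁻¹ * y ∈ center X := by rw [← conj_eq_conj, ← a_pr c, e, a_e_self]
  obtain ⟨k, hk⟩ := hy
  obtain ⟨m, hm⟩ := hQ ⟨q j, hq j⟩
  have hm' : q j ^ p ^ m = 1 := congrArg Subtype.val hm
  have h2 : ((q j)⁻¹ * y) ^ p ^ (k + m) = 1 := by
    have h3 : Commute (q j) ((q j)⁻¹ * y) := mem_center_iff.1 h1 _
    have h4 := h3.mul_pow (p ^ (k + m))
    rw [mul_inv_cancel_left, pow_add, pow_mul, hk, one_pow, mul_comm, pow_mul, hm', one_pow, one_mul] at h4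
    rw [pow_add, mul_comm]
    exact h4.symm
  have h5 : orderOf ((q j)⁻¹ * y) = 1 :=
    Nat.eq_one_of_dvd_coprimes (cop_pow hodd (k + m)) (orderOf_dvd_of_pow_eq_one h2)
      (orderOf_dvd_natCard _ h1)
  rw [orderOf_eq_one_iff, inv_mul_eq_one] at h5
  exact h5 ▸ hq j

/-- the normaliser of the product of the copies of a `p`-group -/
theorem norm_PP [Finite X] (hodd : ¬ p ∣ Nat.card (center X)) {Q : Subgroup X} (hQ : IsPGroup p Q) {g : G}
    (hg : g ∈ normalizer (PP c Q : Set G)) (i : ι) (x : X) : c.a g i x ∈ Q ↔ x ∈ Q := by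
  have key : ∀ g ∈ normalizer (PP c Q : Set G), ∀ i, ∀ x ∈ Q, c.a g i x ∈ Q := fun g hg i x hx => by
    obtain ⟨k, hk⟩ := hQ ⟨x, hx⟩
    have hk' : x ^ p ^ k = 1 := congrArg Subtype.val hk
    refine mem_of_e_mem c hodd hQ ⟨k, by rw [← map_pow, hk', map_one]⟩ (j := c.π g i) ?_
    rw [← c.ha]
    exact (mem_normalizer_iff.1 hg _).1 (e_mem_PP c hx i)
  refine ⟨fun h => ?_, key g hg i x⟩
  have h1 := key g⁻¹ (inv_mem hg) (c.π g i) _ h
  rwa [a_inv', MulAut.inv_apply_self] at h1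

/-- **a Sylow `p`-subgroup of `hat Λ` with its normaliser in `hat (Nm Λ Q)`** -/
theorem exists_P [Finite X] [Finite G] (s : Sit p X Γ) {Λ : Subgroup (MulAut X)} {Q : Subgroup X} (hQ : Q ≤ In Λ)
    (h2 : IsPGroup p Q) (ho : ¬ p ∣ Q.relIndex (In Λ)) :
    ∃ P : Subgroup G, P ≤ c.hat Λ ∧ IsPGroup p P ∧ ¬ p ∣ P.relIndex (c.hat Λ) ∧
      normalizer (P : Set G) ⊓ c.hat Λ ≤ c.hat (Nm Λ Q) := by
  obtain ⟨P, h3, h4, h5, h6⟩ := exists_syl (PP_le_hat c hQ) (isPGroup_PP c h2)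
  refine ⟨P, h4, h5, h6, fun g hg i => ⟨hg.2 i, norm_PP c s.cop h2 ?_ i⟩⟩
  have h7 : PP c Q ≤ LL c := fun u hu => by
    obtain ⟨x, -, rfl⟩ := (mem_PP c).1 hu
    exact (mem_LL c).2 ⟨1, one_mem _, x, (one_mul _).symm⟩
  have h8 : P ⊓ LL c = PP c Q := le_antisymm
    (eq_of_odd (cop_relIndex_PP c hQ ho) (le_inf h3 h7) (hat_inf_LL c (noncomm s) Λ ▸ inf_le_inf_right _ h4)
      (h5.to_le inf_le_left)) (le_inf h3 h7)
  rw [← h8, mem_normalizer_iff]
  intro x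
  exact and_congr (mem_normalizer_iff.1 hg.1 x)
    ⟨fun h => (normal_LL c).conj_mem _ h g, fun h => by simpa [mul_assoc] using (normal_LL c).conj_mem _ h g⁻¹⟩

/-- **the induction step** -/
theorem stepI : StepI p := by
  intro X _ _ Γ Λ Λ' Q s hs hne hle hQ h2 ho hN G _ _ Z ι _ c l _
  obtain ⟨P, h3, h4, h5, h6⟩ := exists_P c s hQ h2 ho
  exact ih_eq c.ih c.cen (Z_le_hat c (noncomm s) _) (hat_ne_top c hs.le hne) (hat_mono c hle) h3 h4 h5
    (h6.trans (hat_mono c hN)) l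

/-- **the last step** -/
theorem stepF : StepF p := by
  intro hA X _ _ Γ G _ _ Z ι _ c s l hl P
  obtain ⟨Λ, Q, hle, hne, hN, hE⟩ := hA X Γ s
  have h1 : In Γ = ⊤ := eq_top_iff.2 fun x _ => s.inn x
  obtain ⟨P₀, -, h4, h5, h6⟩ := exists_P c s (Λ := Γ) (Q := Q) (h1 ▸ le_top) Q.2 (by
    rw [h1, relIndex_top_right]
    exact Q.not_dvd_index)
  rw [hat_top, relIndex_top_right] at h5
  rw [hat_top, inf_top_eq] at h6
  have h7 := h6.trans (hat_mono c hN)
  have h8 : P₀ ≤ c.hat Λ := le_normalizer.trans h7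
  have h9 : ¬ p ∣ P₀.relIndex (c.hat Λ) := nd_of_dvd h5 (relIndex_dvd_index_of_le h8)
  have h10 := hE G Z ι c l hl
  rw [hat_top, ih_sub c.ih c.cen (relIndex_lt (Z_le_hat c (noncomm s) _) (hat_ne_top c hle hne)) h8 h4 h9,
    inf_eq_left.2 h7] at h10
  rw [h10]
  exact kk_sylow c.cen l (h4.toSylow h5) P

end Cfsg.Agent.MO.H
end

-- part: MO/C/Side
section
/-!
# MO, step C: product characters on one side (helper76, from `MK`)

`Side c U Y` : a subgroup `U` of `G` and a group `Y` embedded in `X` such that `U ⊓ (Z * ∏ X i) = Z * ∏ Y i`.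
The characters of `Z × (ι → Y)` under the `p'`-characters of `U` over `l` are the products `Th m ϑ`.
-/

set_option autoImplicit false
set_option maxHeartbeats 400000
set_option linter.unusedSectionVars false

namespace Cfsg.Agent.MO.C

open Cfsg Subgroup
open Cfsg.Agent.Characters.Core Cfsg.Agent.H672 Cfsg.Agent.MO.H
open Cfsg.Agent.MK (Ov Fa Cj In Nm St rs Supp conj_map)
open Cfsg.Agent.MK.C (Nr cen_of_over eq_of_prop Th Th_one Th_single Th_irr Th_deg Th_inj)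
open scoped ComplexConjugate

variable {p : ℕ}

section gen

variable [Fact p.Prime]

/-- a subgroup of `p'`-index over `N` contains the `p`-elements if the quotient by `N` has a normal Sylow subgroup -/
theorem p_mem {A : Type} [Group A] [Finite A] {N R S : Subgroup A} [N.Normal] [R.Normal] (hNS : N ≤ S)
    (hR : ∀ g ∈ R, ∃ k : ℕ, g ^ p ^ k ∈ N) (hS : ¬ p ∣ S.index) : R ≤ S := by
  let f := QuotientGroup.mk' N
  have hf : Function.Surjective f := QuotientGroup.mk'_surjective N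
  obtain ⟨P, -, hP1, hP2, hP3⟩ := exists_syl (p := p) (H := S.map f) (Q := ⊥) bot_le IsPGroup.of_bot
  obtain ⟨Q, hQ⟩ := exists_sylow hP2 (by
    rw [← relIndex_mul_index hP1]
    exact nd_mul' hP3 (nd_of_dvd hS (index_map_dvd S hf)))
  have := ‹R.Normal›.map f hf
  have h1 : IsPGroup p (R.map f) := by
    rintro ⟨_, g, hg, rfl⟩
    obtain ⟨k, hk⟩ := hR g hg
    exact ⟨k, Subtype.ext (by
      change f g ^ p ^ k = 1
      rw [← map_pow]
      exact (QuotientGroup.eq_one_iff _).2 hk)⟩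
  have h2 : R.map f ≤ S.map f := (h1.le_sylow_of_normal Q).trans (hQ ▸ hP1)
  intro g hg
  have h3 : g ∈ (S.map f).comap f := h2 ⟨g, hg, rfl⟩
  rwa [comap_map_eq, QuotientGroup.ker_mk', sup_eq_left.2 hNS] at h3

theorem mem_of_p {A : Type} [Group A] {R : Subgroup A} [R.Normal] (hR : ¬ p ∣ R.index) {g : A} {k : ℕ}
    (hg : g ^ p ^ k = 1) : g ∈ R := by
  rw [← QuotientGroup.eq_one_iff, ← orderOf_eq_one_iff]
  refine Nat.eq_one_of_dvd_coprimes (cop_pow hR k) (orderOf_dvd_of_pow_eq_one ?_)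
    (orderOf_dvd_natCard _)
  rw [← QuotientGroup.mk_pow, hg, QuotientGroup.mk_one]

end gen

section th

variable {Z Y ι : Type} [Group Z] [Group Y] [Fintype ι] (m : Z →* ℂˣ)

variable [Finite Z] [Finite Y]

theorem Th_cop [Fact p.Prime] {ϑ : ι → Y → ℂ} (h : ∀ i, IsIrrCharacter Y (ϑ i)) :
    ¬ p ∣ charDegree (Th m ϑ) ↔ ∀ i, ¬ p ∣ charDegree (ϑ i) := by
  rw [Th_deg m h]
  refine ⟨fun ho i => nd_of_dvd ho (Finset.dvd_prod_of_mem _ (Finset.mem_univ i)), fun ho => ?_⟩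
  exact Finset.prod_induction _ (fun n => ¬ p ∣ n) (fun _ _ => nd_mul') nd_one fun i _ => ho i

end th

variable {X : Type} [Group X] {Γ : Subgroup (MulAut X)} {G : Type} [Group G] {Z : Subgroup G} {ι : Type}

/-- one side of the comparison -/
structure Side (c : Conf p Γ G Z ι) (U : Subgroup G) (Y : Type) [Group Y] where
  ρ : Y →* X
  inj : Function.Injective ρ
  b : U → ι → MulAut Y
  hb : ∀ u i y, ρ (b u i y) = c.a u i (ρ y)
  mem : ∀ g, c.π g = 1 → (∀ i, ∃ y, c.a g i = MulAut.conj (ρ y)) → g ∈ U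
  sup : ∀ u ∈ U, ∀ i x, c.a u i = MulAut.conj x → x ∈ ρ.range
  nc : ∃ x y : X, x * y ≠ y * x

theorem e_cen (c : Conf p Γ G Z ι) {z : X} (hz : z ∈ center X) (i j : ι) : c.e i z = c.e j z := by
  obtain ⟨g, h1, h2⟩ := c.onto i j 1 (one_mem _)
  have h := c.ha g i z
  rwa [h1, h2, mem_center_iff.1 (c.cen (e_mem_Z c hz i)) g, mul_inv_cancel_right] at h

namespace Side

variable {c : Conf p Γ G Z ι} {U : Subgroup G} {Y : Type} [Group Y] (s : Side c U Y)

theorem b_mul (u v : U) (i : ι) : s.b (u * v) i = s.b u (c.π v i) * s.b v i := by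
  ext y
  refine s.inj ?_
  rw [MulAut.mul_apply, s.hb, s.hb, s.hb, coe_mul, c.a_mul, MulAut.mul_apply]

theorem b_one (i : ι) : s.b 1 i = 1 := by
  ext y
  refine s.inj ?_
  rw [s.hb, coe_one, c.a_one, MulAut.one_apply, MulAut.one_apply]

/-- the conjugate family -/
def cj (u : U) (ϑ : ι → Y → ℂ) : ι → Y → ℂ := fun i y => ϑ (c.π u i) (s.b u i y)

theorem cj_one (ϑ : ι → Y → ℂ) : s.cj 1 ϑ = ϑ := by
  funext i y
  simp only [cj, s.b_one, coe_one, map_one, Equiv.Perm.one_apply, MulAut.one_apply]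

theorem cj_mul (u v : U) (ϑ : ι → Y → ℂ) : s.cj (u * v) ϑ = s.cj v (s.cj u ϑ) := by
  funext i y
  simp only [cj, s.b_mul, coe_mul, map_mul, Equiv.Perm.mul_apply, MulAut.mul_apply]

theorem cj_irr {ϑ : ι → Y → ℂ} (h : ∀ i, IsIrrCharacter Y (ϑ i)) (u : U) (i : ι) : IsIrrCharacter Y (s.cj u ϑ i) :=
  isIrr_comp (s.b u i).toMonoidHom (s.b u i).surjective (h _)

/-- the stabiliser of a family -/
def st (ϑ : ι → Y → ℂ) : Subgroup U where
  carrier := {u | s.cj u ϑ = ϑ}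
  one_mem' := s.cj_one ϑ
  mul_mem' {u v} hu hv := (s.cj_mul u v ϑ).trans (by rw [hu, hv])
  inv_mem' {u} hu := by
    have h := s.cj_mul u u⁻¹ ϑ
    rw [mul_inv_cancel, s.cj_one, hu] at h
    exact h.symm

include s in
theorem zU : Z ≤ U := fun z hz =>
  s.mem z (π_cen c s.nc (c.cen hz)) fun i => ⟨1, by rw [a_cen c s.nc (c.cen hz), map_one, map_one]⟩

variable [Fintype ι]

/-- the product map -/
noncomputable def q : Z × (ι → Y) →* G :=
  MonoidHom.mk' (fun d => d.1 * pr c fun i => s.ρ (d.2 i)) fun d e => by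
    have h : (fun i => s.ρ ((d * e).2 i)) = (fun i => s.ρ (d.2 i)) * fun i => s.ρ (e.2 i) :=
      funext fun i => map_mul _ _ _
    rw [h, map_mul, Prod.fst_mul, coe_mul, mul_assoc, mul_assoc, ← mul_assoc (pr c _) (e.1 : G),
      mem_center_iff.1 (c.cen e.1.2) (pr c _), mul_assoc]

theorem q_apply (d : Z × (ι → Y)) : s.q d = d.1 * pr c fun i => s.ρ (d.2 i) := rfl

theorem π_q (d : Z × (ι → Y)) : c.π (s.q d) = 1 := by
  rw [q_apply, map_mul, π_cen c s.nc (c.cen d.1.2), π_pr, mul_one]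

theorem a_q (d : Z × (ι → Y)) (i : ι) : c.a (s.q d) i = MulAut.conj (s.ρ (d.2 i)) := by
  rw [q_apply, a_mul_pr, a_cen c s.nc (c.cen d.1.2), one_mul]

/-- the product map into `U` -/
noncomputable def f : Z × (ι → Y) →* U := s.q.codRestrict U fun d => s.mem _ (s.π_q d) fun i => ⟨_, s.a_q d i⟩

theorem f_coe (d : Z × (ι → Y)) : (s.f d : G) = s.q d := rfl

omit [Fintype ι] in
/-- the action on the product -/
def φ (u : U) (d : Z × (ι → Y)) : Z × (ι → Y) := (d.1, fun k => s.b u ((c.π u).symm k) (d.2 ((c.π u).symm k)))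

theorem nr : Nr s.f s.φ := fun u d => Subtype.ext (by
  change s.q (s.φ u d) = u * s.q d * (u : G)⁻¹
  rw [q_apply, q_apply, ← mul_assoc, mem_center_iff.1 (c.cen d.1.2), mul_assoc, mul_assoc, ← mul_assoc (u : G),
    conj_pr c u (y := fun i => s.ρ ((s.φ u d).2 i)) fun i => by simp only [φ, Equiv.symm_apply_apply, s.hb]]
  rfl)

theorem Th_φ (m : Z →* ℂˣ) (ϑ : ι → Y → ℂ) (u : U) (d : Z × (ι → Y)) : Th m ϑ (s.φ u d) = Th m (s.cj u ϑ) d := by
  simp only [Th, φ, cj]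
  rw [← Equiv.prod_comp (c.π u)]
  simp only [Equiv.symm_apply_apply]

theorem cj_f {ϑ : ι → Y → ℂ} (h : ∀ i, IsIrrCharacter Y (ϑ i)) (d : Z × (ι → Y)) : s.cj (s.f d) ϑ = ϑ := by
  funext i y
  have h1 : s.b (s.f d) i y = d.2 i * y * (d.2 i)⁻¹ := s.inj (by
    rw [s.hb, f_coe, a_q, MulAut.conj_apply, map_mul, map_mul, map_inv])
  rw [cj, h1, f_coe, π_q, Equiv.Perm.one_apply]
  exact isIrr_isClassFunction (h i) _ _

theorem mem_range {u : U} (hu : (u : G) ∈ LL c) : u ∈ s.f.range := by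
  obtain ⟨z, hz, x, e⟩ := (mem_LL c).1 hu
  choose y hy using fun i => s.sup u u.2 i (x i) (by rw [e, a_mul_pr, a_cen c s.nc (c.cen hz), one_mul])
  exact ⟨(⟨z, hz⟩, y), Subtype.ext (by rw [f_coe, q_apply, e]; simp only [hy])⟩

variable [Finite G] [Finite Y]

theorem mem_st (m : Z →* ℂˣ) {ϑ : ι → Y → ℂ} (h : ∀ i, IsIrrCharacter Y (ϑ i)) (u : U) :
    u ∈ s.st ϑ ↔ ∀ d, Th m ϑ (s.φ u d) = Th m ϑ d := by
  simp only [s.Th_φ]
  exact ⟨fun hu d => by rw [show s.cj u ϑ = ϑ from hu], fun hu => Th_inj m (s.cj_irr h u) h hu⟩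

theorem over_iff_cj (m : Z →* ℂˣ) {χ : U → ℂ} (hχ : IsIrrCharacter U χ) {ϑ ϑ' : ι → Y → ℂ}
    (h : ∀ i, IsIrrCharacter Y (ϑ i)) (h' : ∀ i, IsIrrCharacter Y (ϑ' i)) (ho : Over s.f χ (Th m ϑ)) :
    Over s.f χ (Th m ϑ') ↔ ∃ u, ϑ' = s.cj u ϑ := by
  constructor
  · intro ho'
    obtain ⟨u, hu⟩ := s.nr.exists_conj hχ (Th_irr m h) (Th_irr m h') ho ho'
    exact ⟨u, Th_inj m h' (s.cj_irr h u) fun d => by rw [hu, s.Th_φ]⟩
  · rintro ⟨u, rfl⟩
    exact s.nr.over_conj hχ (Th_irr m h) ho u fun d => (s.Th_φ m ϑ u d).symm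

theorem f_cen (z : Z) : s.f (z, 1) = inclusion s.zU z := Subtype.ext (by
  rw [f_coe, q_apply]
  have h : (fun i => s.ρ ((1 : ι → Y) i)) = 1 := funext fun i => map_one _
  rw [h, map_one, mul_one]
  rfl)

include s in
theorem cen_U {u : U} (hu : (u : G) ∈ Z) : u ∈ center U :=
  mem_center_iff.2 fun v => Subtype.ext (mem_center_iff.1 (c.cen hu) v)

include s in
theorem cen_D (z : Z) : ((z, 1) : Z × (ι → Y)) ∈ center _ :=
  mem_center_iff.2 fun d => Prod.ext (Subtype.ext (mem_center_iff.1 (c.cen z.2) d.1)) (by simp)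

theorem ov_of_over {l : G → ℂ} {m : Z →* ℂˣ} (hm : ∀ z : Z, l z = m z) {χ : U → ℂ} (hχ : IsIrrCharacter U χ)
    {ϑ : ι → Y → ℂ} (h : ∀ i, IsIrrCharacter Y (ϑ i)) (ho : Over s.f χ (Th m ϑ)) : Ov U Z l χ := by
  intro u hu
  have h1 := cen_of_over hχ (Th_irr m h) ho (s.cen_D ⟨u, hu⟩) (by rw [f_cen]; exact s.cen_U hu)
  rw [f_cen] at h1
  refine mul_right_cancel₀ (isIrr_apply_one_ne_zero (Th_irr m h)) (h1.symm.trans ?_)
  rw [hm ⟨u, hu⟩, Th_one]
  simp only [Th, Pi.one_apply]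
  ring

/-- the family under a `p'`-character -/
theorem under [Fact p.Prime] {l : G → ℂ} {m : Z →* ℂˣ} (hm : ∀ z : Z, l z = m z) {χ : U → ℂ} (hχ : PI p U χ) (hl : Ov U Z l χ) :
    ∃ ϑ : ι → Y → ℂ, (∀ i, PI p Y (ϑ i)) ∧ (∀ i y, s.ρ y ∈ center X → ϑ i y = l (c.e i (s.ρ y)) * ϑ i 1) ∧
      (∀ (u : U) (k : ℕ), (u : G) ^ p ^ k = 1 → s.cj u ϑ = ϑ) ∧ Over s.f χ (Th m ϑ) := by
  classical
  obtain ⟨Θ, hΘ, ho⟩ := exists_under (f := s.f) hχ.1
  obtain ⟨μ, ψ, hμ, hψ, e⟩ := (S0188.result Θ).1 hΘ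
  obtain ⟨ϑ, h, e'⟩ := H624.MGroup.exists_pi ψ hψ
  have h0 := hχ.one_ne
  have h1 : μ = lf m := eq_of_prop hμ (isIrr_lf m) (mul_ne_zero (isIrr_apply_one_ne_zero hψ) h0)
    (b := χ 1 * Θ 1) fun z => by
      have h2 := cen_of_over hχ.1 hΘ ho (s.cen_D z) (by rw [f_cen]; exact s.cen_U z.2)
      rw [f_cen, hl (inclusion s.zU z) z.2] at h2
      rw [lf_apply, ← hm, ← mul_assoc, ← mul_assoc]
      refine Eq.trans ?_ h2
      rw [e]
  have h2 : Θ = Th m ϑ := by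
    rw [e, h1]
    funext d
    rw [e']
    rfl
  subst h2
  have h3 := nd_of_dvd hχ.2 (s.nr.dvd hχ.1 hΘ (s.mem_st m h) ho)
  rw [nd_mul, Th_cop m h] at h3
  refine ⟨ϑ, fun i => ⟨h i, h3.2 i⟩, fun i y hy => ?_, fun u k hu => ?_, ho⟩
  · have h4 : (s.f (1, Pi.mulSingle i y) : G) = c.e i (s.ρ y) := by
      rw [f_coe, q_apply, coe_one, one_mul, ← pr_single]
      congr 1
      funext j
      exact Pi.apply_mulSingle (fun _ => s.ρ) (fun _ => map_one _) i y j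
    have h5 : (s.f (1, Pi.mulSingle i y) : G) ∈ Z := h4 ▸ e_mem_Z c hy i
    have h6 := cen_of_over hχ.1 hΘ ho (z := (1, Pi.mulSingle i y)) (mem_center_iff.2 fun d => Prod.ext (by simp)
      (funext fun j => by
        by_cases hj : j = i
        · subst hj
          refine s.inj ?_
          simp only [Prod.snd_mul, Pi.mul_apply, Pi.mulSingle_eq_same, map_mul]
          exact mem_center_iff.1 hy _
        · simp [Pi.mulSingle_eq_of_ne hj])) (s.cen_U h5)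
    rw [hl _ h5, h4, Th_single, Th_one, ← Finset.mul_prod_erase _ _ (Finset.mem_univ i)] at h6
    refine mul_right_cancel₀ (mul_ne_zero (Finset.prod_ne_zero_iff.2 fun j (_ : j ∈ Finset.univ.erase i) =>
      isIrr_apply_one_ne_zero (h j)) h0) ?_
    rw [← mul_assoc, h6]
    ring
  · obtain ⟨R, hR, -, hR2, hR3⟩ := c.cl
    have := normal_LL c
    exact p_mem (N := (LL c).subgroupOf U) (R := R.subgroupOf U)
      (fun v hv => by obtain ⟨d, rfl⟩ := s.mem_range hv; exact s.cj_f h d) (fun g hg => hR2 g hg) h3.1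
      (mem_of_p hR3 hu)

end Side

end Cfsg.Agent.MO.C
end

-- part: MO/E/Cyc
section
/-!
# MO/E: `extOn_cyc`, `exists_cd`, `stepCyc`, `stepSm` (helper76, from `MK`)

* `extOn_cyc` : `S` cyclic modulo the inner automorphisms;
* `exists_equi` : equal marks give an equivariant bijection `SA → SB`;
* `stepC_marks` : the Clifford step from equal marks and an extension property for all pairs with the same stabiliser;
* `stepCyc`, `stepSm`.
-/

set_option autoImplicit false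

namespace Cfsg.Agent.MO.E

open Cfsg Subgroup Cfsg.Agent.Characters.Core
open Cfsg.Agent.MK (Ov Fa Cj In Nm St rs Supp ExtOn Cyc conj_map map_mem_In rs_coe)
open Cfsg.Agent.MK.E (Sc sc_of exists_wit_inn ext_meta conj_eq_one_iff)
open scoped ComplexConjugate

variable {p : ℕ} {X : Type} [Group X] {Γ Λ S : Subgroup (MulAut X)}

/-- **the cyclic case of `ExtOn`** -/
theorem extOn_cyc [Finite X] (hS : S ≤ Λ) {θ : X → ℂ} {ψ : In Λ → ℂ} (hθ : IsIrrCharacter X θ)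
    (hψ : IsIrrCharacter (In Λ) ψ) (hz : Sc Λ θ ψ) {γ : MulAut X} (hγ : γ ∈ S) (hθγ : ∀ x, θ (γ x) = θ x)
    (hψγ : ∀ y y' : In Λ, (y' : X) = γ y → ψ y' = ψ y)
    (hgen : ∀ α ∈ S, ∃ (k : ℕ) (x : X), α = MulAut.conj x * γ ^ k) : ExtOn Λ S θ ψ := by
  obtain ⟨A, _, j, t, Ψ, hΨ, w, hj⟩ := exists_wit_inn (S := Cj (In Λ)) (isIrr_isCharacter hθ) (isIrr_isCharacter hψ)
    hz le_rfl
  refine ext_meta hS w hΨ hθ hψ hj (fun k _ => ⟨k, k.2, rfl⟩) hγ (fun α hα => ?_) fun β _ => ?_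
  · obtain ⟨k, x, hx⟩ := hgen α hα
    refine ⟨_, ⟨x, ?_, rfl⟩, k, hx⟩
    change MulAut.conj x ∈ Λ
    rw [eq_mul_inv_of_mul_eq hx.symm]
    exact hS (mul_mem hα (inv_mem (pow_mem hγ k)))
  · obtain ⟨_, k, hk, rfl⟩ := β
    refine ⟨⟨_, γ k, map_mem_In (hS hγ) hk, rfl⟩, conj_map γ k, fun x y y' hy => ?_⟩
    have e1 := w.inn ⟨k, hk⟩ ⟨k, hk, rfl⟩
    have e2 := w.inn ⟨γ k, map_mem_In (hS hγ) hk⟩ ⟨γ k, map_mem_In (hS hγ) hk, rfl⟩
    refine ((congrArg (fun u => Ψ (j (γ x, y') * u)) e2).trans ?_).trans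
      (congrArg (fun u => Ψ (j (x, y) * u)) e1).symm
    rw [← map_mul, ← map_mul, Prod.mk_mul_mk, Prod.mk_mul_mk, hj, hj,
      ← map_mul γ, hθγ, hψγ (y * ⟨k, hk⟩) _ (by rw [coe_mul, coe_mul, map_mul, hy])]

theorem normal_inn : (MulAut.conj : X →* MulAut X).range.Normal :=
  ⟨by rintro _ ⟨x, rfl⟩ α; exact ⟨α x, conj_map α x⟩⟩

/-- a subgroup of a group which is cyclic modulo the inner automorphisms has a generator -/
theorem cyc_sub [Finite X] {γ : MulAut X} {L : Subgroup (MulAut X)}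
    (h : ∀ α ∈ L, ∃ (k : ℕ) (x : X), α = MulAut.conj x * γ ^ k) :
    ∃ δ ∈ L, ∀ α ∈ L, ∃ (k : ℕ) (x : X), α = MulAut.conj x * δ ^ k := by
  have := normal_inn (X := X)
  let π := QuotientGroup.mk' (MulAut.conj : X →* MulAut X).range
  have h1 : L.map π ≤ zpowers (π γ) := by
    rintro _ ⟨α, hα, rfl⟩
    obtain ⟨k, x, rfl⟩ := h α hα
    have h2 : π (MulAut.conj x) = 1 := (QuotientGroup.eq_one_iff _).2 ⟨x, rfl⟩
    rw [map_mul, h2, one_mul, map_pow]
    exact npow_mem_zpowers _ _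
  obtain ⟨n, hn⟩ := (le_zpowers_iff _ _).1 h1
  obtain ⟨δ, hδ, e⟩ : π γ ^ n ∈ L.map π := hn ▸ mem_zpowers _
  refine ⟨δ, hδ, fun α hα => ?_⟩
  have h2 : π α ∈ zpowers (π δ) := by
    rw [e, ← hn]
    exact mem_map_of_mem _ hα
  obtain ⟨k, hk⟩ := mem_powers_iff_mem_zpowers.2 h2
  have h3 : π (α * (δ ^ k)⁻¹) = 1 := by
    rw [map_mul, map_inv, map_pow, ← show π δ ^ k = π α from hk, mul_inv_cancel]
  obtain ⟨x, hx⟩ := (QuotientGroup.eq_one_iff _).1 h3
  exact ⟨k, x, by rw [hx, inv_mul_cancel_right]⟩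

theorem conj_mul_pow (x : X) (β : MulAut X) (m : ℕ) : ∃ y : X, (MulAut.conj x * β) ^ m = MulAut.conj y * β ^ m := by
  induction m with
  | zero => exact ⟨1, by simp⟩
  | succ m ih =>
    obtain ⟨y, hy⟩ := ih
    refine ⟨x * β y, ?_⟩
    rw [pow_succ', hy, map_mul, conj_map, pow_succ']
    group

theorem pi_comp {G : Type} [Group G] {χ : G → ℂ} (h : PI p G χ) (α : MulAut G) : PI p G fun x => χ (α x) := by
  refine ⟨isIrr_comp α.toMonoidHom α.surjective h.1, ?_⟩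
  have h2 := h.2
  unfold charDegree at h2 ⊢
  simpa only [map_one] using h2

theorem sa_comp (hf : ∀ α ∈ Λ, ∀ z ∈ center X, α z = z) {l θ : X → ℂ} (h : θ ∈ SA p Λ l) {α : MulAut X} (hα : α ∈ Λ) :
    (fun x => θ (α x)) ∈ SA p Λ l := by
  refine ⟨pi_comp h.1 α, fun z hz => by simp only [hf α hα z hz, map_one, h.2.1 z hz], fun β hβ ⟨k, hk⟩ x => ?_⟩
  have h1 := h.2.2 (α * β * α⁻¹) (mul_mem (mul_mem hα hβ) (inv_mem hα)) ⟨k, by rw [conj_pow, hk]; simp⟩ (α x)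
  simpa using h1

theorem sb_comp (hf : ∀ α ∈ Λ, ∀ z ∈ center X, α z = z) {l : X → ℂ} {ψ : In Λ → ℂ} (h : ψ ∈ SB p Λ l) (α : Λ) :
    (fun y => ψ (rs Λ α y)) ∈ SB p Λ l := by
  refine ⟨pi_comp h.1 (rs Λ α), fun z hz => ?_, fun β ⟨k, hk⟩ y => ?_⟩
  · have h1 : rs Λ α z = z := Subtype.ext (hf α α.2 z hz)
    simp only [h1, map_one, h.2.1 z hz]
  · have h1 := h.2.2 (α * β * α⁻¹) ⟨k, by rw [conj_pow, hk]; simp⟩ (rs Λ α y)
    simpa using h1

variable (p) in
/-- the action on `SA` -/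
@[reducible] def actA (hf : ∀ α ∈ Λ, ∀ z ∈ center X, α z = z) (l : X → ℂ) : MulAction Λ (SA p Λ l) where
  smul α θ := ⟨fun x => θ.1 (α⁻¹.1 x), sa_comp hf θ.2 α⁻¹.2⟩
  one_smul _ := rfl
  mul_smul _ _ _ := rfl

variable (p) in
/-- the action on `SB` -/
@[reducible] def actB (hf : ∀ α ∈ Λ, ∀ z ∈ center X, α z = z) (l : X → ℂ) : MulAction Λ (SB p Λ l) where
  smul α ψ := ⟨fun y => ψ.1 (rs Λ α⁻¹ y), sb_comp hf ψ.2 α⁻¹⟩
  one_smul _ := rfl
  mul_smul _ _ _ := rfl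

theorem finite_pi {G : Type} [Group G] [Finite G] {s : Set (G → ℂ)} (h : ∀ χ ∈ s, PI p G χ) : Finite s := by
  have := finite_irr (G := G)
  exact Finite.of_injective (fun χ : s => (⟨χ.1, (h _ χ.2).1⟩ : IrrCharacter G))
    fun a b e => Subtype.ext (congrArg (fun u : IrrCharacter G => u.1) e)

variable (p) in
/-- the number of the members of `SA` which are fixed by `L` -/
noncomputable def mA (Λ L : Subgroup (MulAut X)) (l : X → ℂ) : ℕ :=
  Nat.card {θ : X → ℂ // θ ∈ SA p Λ l ∧ ∀ α ∈ L, ∀ x, θ (α x) = θ x}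

variable (p) in
/-- the number of the members of `SB` which are fixed by `L` -/
noncomputable def mB (Λ L : Subgroup (MulAut X)) (l : X → ℂ) : ℕ :=
  Nat.card {ψ : In Λ → ℂ // ψ ∈ SB p Λ l ∧ ∀ α ∈ L, ∀ y y' : In Λ, (y' : X) = α y → ψ y' = ψ y}

/-- **equal marks give an equivariant bijection** -/
theorem exists_equi [Finite X] (hf : ∀ α ∈ Λ, ∀ z ∈ center X, α z = z) (l : X → ℂ)
    (h : ∀ L ≤ Λ, mA p Λ L l = mB p Λ L l) : ∃ Ω : (X → ℂ) → In Λ → ℂ, Set.BijOn Ω (SA p Λ l) (SB p Λ l) ∧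
      ∀ θ ∈ SA p Λ l, ∀ (α : Λ) (y : In Λ), Ω (fun x => θ (α.1 x)) y = Ω θ (rs Λ α y) := by
  classical
  let _ := actA p hf l
  let _ := actB p hf l
  have := finite_pi (s := SA p Λ l) fun _ h => h.1
  have := finite_pi (s := SB p Λ l) fun _ h => h.1
  obtain ⟨e, he⟩ := H980.exists_equiv_of_mark_eq (D := Λ) (SA p Λ l) (SB p Λ l) fun L => by
    have h1 : H980.mark (SA p Λ l) L = mA p Λ (L.map Λ.subtype) l := by
      refine Nat.card_congr ⟨fun θ => ⟨θ.1.1, θ.1.2, ?_⟩, fun θ => ⟨⟨θ.1, θ.2.1⟩, fun α hα => ?_⟩, fun _ => rfl,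
        fun _ => rfl⟩
      · rintro _ ⟨α, hα, rfl⟩ x
        exact congrFun (congrArg Subtype.val (θ.2 α⁻¹ (inv_mem hα))) x
      · exact Subtype.ext (funext fun x => θ.2.2 _ ⟨α⁻¹, inv_mem hα, rfl⟩ x)
    have h2 : H980.mark (SB p Λ l) L = mB p Λ (L.map Λ.subtype) l := by
      refine Nat.card_congr ⟨fun ψ => ⟨ψ.1.1, ψ.1.2, ?_⟩, fun ψ => ⟨⟨ψ.1, ψ.2.1⟩, fun α hα => ?_⟩, fun _ => rfl,
        fun _ => rfl⟩
      · rintro _ ⟨α, hα, rfl⟩ y y' hy
        rw [show y' = rs Λ α y from Subtype.ext hy]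
        exact congrFun (congrArg Subtype.val (ψ.2 α⁻¹ (inv_mem hα))) y
      · exact Subtype.ext (funext fun y => ψ.2.2 _ ⟨α⁻¹, inv_mem hα, rfl⟩ y _ rfl)
    rw [h1, h2]
    exact h _ (map_subtype_le L)
  let Ω : (X → ℂ) → In Λ → ℂ := fun θ => if h : θ ∈ SA p Λ l then (e ⟨θ, h⟩).1 else 0
  have hΩ : ∀ θ (h : θ ∈ SA p Λ l), Ω θ = (e ⟨θ, h⟩).1 := fun θ h => dif_pos h
  refine ⟨Ω, ⟨fun θ h => hΩ θ h ▸ (e ⟨θ, h⟩).2, fun θ h θ' h' hh => ?_, fun ψ h => ?_⟩, fun θ h α y => ?_⟩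
  · rw [hΩ θ h, hΩ θ' h'] at hh
    exact congrArg Subtype.val (e.injective (Subtype.ext hh))
  · refine ⟨(e.symm ⟨ψ, h⟩).1, (e.symm ⟨ψ, h⟩).2, ?_⟩
    rw [hΩ _ (e.symm ⟨ψ, h⟩).2]
    exact congrArg Subtype.val (e.apply_symm_apply ⟨ψ, h⟩)
  · rw [hΩ _ (sa_comp hf h α.2), hΩ θ h]
    exact congrFun (congrArg Subtype.val (he α⁻¹ ⟨θ, h⟩)) y

/-- from an equivariant bijection: the stabiliser of `θ` fixes `Ω θ` -/
theorem st_fix {l : X → ℂ} {Ω : (X → ℂ) → In Λ → ℂ}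
    (h : ∀ θ ∈ SA p Λ l, ∀ (α : Λ) (y : In Λ), Ω (fun x => θ (α.1 x)) y = Ω θ (rs Λ α y)) {θ : X → ℂ}
    (hθ : θ ∈ SA p Λ l) {α : MulAut X} (hα : α ∈ St Λ θ) (y y' : In Λ) (hy : (y' : X) = α y) : Ω θ y' = Ω θ y := by
  rw [show y' = rs Λ ⟨α, hα.1⟩ y from Subtype.ext hy, ← h θ hθ, funext hα.2]

/-- **equal marks and the extension property for all invariant pairs give `CD`** -/
theorem exists_cd [Finite X] (hf : ∀ α ∈ Λ, ∀ z ∈ center X, α z = z) (l : X → ℂ)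
    (h : ∀ L ≤ Λ, mA p Λ L l = mB p Λ L l)
    (hx : ∀ θ ∈ SA p Λ l, ∀ ψ ∈ SB p Λ l, (∀ α ∈ St Λ θ, ∀ y y' : In Λ, (y' : X) = α y → ψ y' = ψ y) →
      ExtOn Λ (St Λ θ) θ ψ) : ∃ Ω, CD p Λ l Ω := by
  obtain ⟨Ω, h1, h2⟩ := exists_equi hf l h
  exact ⟨Ω, h1, h2, fun θ hθ => hx θ hθ _ (h1.1 hθ) fun α hα => st_fix h2 hθ hα⟩

theorem fix_pow {θ : X → ℂ} (hθ : IsClassFunction X θ) {δ : MulAut X} (h : ∀ x, θ (δ x) = θ x) (k : ℕ) (x y : X) :
    θ ((MulAut.conj x * δ ^ k) y) = θ y := by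
  refine (hθ _ x).trans ?_
  induction k with
  | zero => rfl
  | succ k ih => rw [pow_succ']; exact (h _).trans ih

theorem fix_pow' {ψ : In Λ → ℂ} (hψ : IsClassFunction (In Λ) ψ) {δ : Λ} (h : ∀ y, ψ (rs Λ δ y) = ψ y) {k : ℕ} {x : X}
    {α : Λ} (e : α.1 = MulAut.conj x * δ.1 ^ k) (y : In Λ) : ψ (rs Λ α y) = ψ y := by
  have hx : x ∈ In Λ := by
    change MulAut.conj x ∈ Λ
    rw [eq_mul_inv_of_mul_eq e.symm]
    exact mul_mem α.2 (inv_mem (pow_mem δ.2 k))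
  have h1 : rs Λ α y = ⟨x, hx⟩ * rs Λ (δ ^ k) y * ⟨x, hx⟩⁻¹ := Subtype.ext (by rw [rs_coe, e]; rfl)
  rw [h1, hψ]
  clear h1 e
  induction k with
  | zero => rw [pow_zero, map_one]; rfl
  | succ k ih => rw [pow_succ', map_mul]; exact (h _).trans ih

/-- **the cyclic step** -/
theorem stepCyc [Fact p.Prime] (h : StepC p) : StepCyc p := by
  intro X _ _ Γ Λ s sp ⟨γ, _, hγ⟩ hc
  have hf : ∀ α ∈ Λ, ∀ z ∈ center X, α z = z := fun α hα => s.fix α (sp.le hα)
  refine h X Γ Λ s sp fun l hl => exists_cd hf l (fun L hL => ?_) fun θ hθ ψ hψ hfix => ?_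
  · let T : Set (MulAut X) := {α | α ∈ Λ ∧ ∃ k : ℕ, α ^ p ^ k = 1}
    have hL' : L ⊔ Subgroup.closure T ≤ Λ := sup_le hL ((closure_le _).2 fun α hα => hα.1)
    obtain ⟨δ, hδ, hg⟩ := cyc_sub (γ := γ) (L := L ⊔ Subgroup.closure T) fun α hα => hγ α (sp.le (hL' hα))
    have hT : ∀ α ∈ Λ, (∃ k : ℕ, α ^ p ^ k = 1) → α ∈ L ⊔ Subgroup.closure T := fun α h1 h2 =>
      mem_sup_right (subset_closure ⟨h1, h2⟩)
    have hb : Big p Γ δ := by
      intro β hβ
      obtain ⟨x, β', hβ', rfl⟩ := sp.sup β hβ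
      obtain ⟨k, m, hm, e⟩ := exists_split p (orderOf_pos β').ne'
      obtain ⟨n, y, hy⟩ := hg (β' ^ m) (hT _ (pow_mem hβ' m) ⟨k, by rw [← pow_mul, mul_comm, ← e, pow_orderOf_eq_one]⟩)
      obtain ⟨z, hz⟩ := conj_mul_pow x β' m
      exact ⟨m, n, z * y, hm, by rw [hz, hy, map_mul, mul_assoc]⟩
    have h1 : mA p Λ L l = fA p l δ := by
      refine Nat.card_congr (Equiv.subtypeEquivRight fun θ => ⟨fun hθ => ⟨hθ.1.1, hθ.1.2.1, ?_⟩, fun hθ => ?_⟩)
      · have h2 : L ⊔ Subgroup.closure T ≤ St Λ θ :=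
          sup_le (fun α hα => ⟨hL hα, hθ.2 α hα⟩) ((closure_le _).2 fun α hα => ⟨hα.1, hθ.1.2.2 α hα.1 hα.2⟩)
        exact (h2 hδ).2
      · have h2 : ∀ α ∈ L ⊔ Subgroup.closure T, ∀ x, θ (α x) = θ x := fun α hα x => by
          obtain ⟨k, y, rfl⟩ := hg α hα
          exact fix_pow (isIrr_isClassFunction hθ.1.1) hθ.2.2 k y x
        exact ⟨⟨hθ.1, hθ.2.1, fun α h3 h4 => h2 α (hT α h3 h4)⟩, fun α hα => h2 α (mem_sup_left hα)⟩
    have h2 : mB p Λ L l = fB p (In Λ) l δ := by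
      refine Nat.card_congr (Equiv.subtypeEquivRight fun ψ => ⟨fun hψ => ⟨hψ.1.1, hψ.1.2.1, ?_⟩, fun hψ => ?_⟩)
      · have h2 : L ⊔ Subgroup.closure T ≤ ((St ⊤ ψ).comap (rs Λ)).map Λ.subtype :=
          sup_le (fun α hα => ⟨⟨α, hL hα⟩, ⟨trivial, fun y => hψ.2 α hα y _ rfl⟩, rfl⟩)
            ((closure_le _).2 fun α hα => ⟨⟨α, hα.1⟩, ⟨trivial, hψ.1.2.2 ⟨α, hα.1⟩
              (hα.2.imp fun k hk => Subtype.ext hk)⟩, rfl⟩)
        obtain ⟨δ', h3, rfl⟩ := h2 hδ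
        intro y y' hy
        rw [show y' = rs Λ δ' y from Subtype.ext hy]
        exact h3.2 y
      · have h2 : ∀ α : Λ, α.1 ∈ L ⊔ Subgroup.closure T → ∀ y, ψ (rs Λ α y) = ψ y := fun α hα y => by
          obtain ⟨k, x, e⟩ := hg α hα
          exact fix_pow' (δ := ⟨δ, hL' hδ⟩) (isIrr_isClassFunction hψ.1.1) (fun y => hψ.2.2 y _ rfl) e y
        refine ⟨⟨hψ.1, hψ.2.1, fun α h4 => h2 α (hT α α.2 (h4.imp fun k hk => congrArg Subtype.val hk))⟩,
          fun α hα y y' hy => ?_⟩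
        rw [show y' = rs Λ ⟨α, hL hα⟩ y from Subtype.ext hy]
        exact h2 ⟨α, hL hα⟩ (mem_sup_left hα) y
    rw [h1, h2]
    exact hc l hl δ (hL' hδ) hb
  · obtain ⟨δ, hδ, hg⟩ := cyc_sub (γ := γ) (L := St Λ θ) fun α hα => hγ α (sp.le hα.1)
    exact extOn_cyc (S := St Λ θ) (fun α hα => hα.1) hθ.1.1 hψ.1.1 (sc_of hθ.1.1 hθ.2.1 hψ.2.1) hδ hδ.2 (hfix δ hδ) hg

theorem index_center_le [Finite X] (h : ∀ x : X, MulAut.conj x ∈ Γ) : (center X).index ≤ Nat.card Γ := by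
  have h1 : (MulAut.conj : X →* MulAut X).ker = center X := Subgroup.ext fun x => conj_eq_one_iff
  rw [← h1, index_ker]
  exact card_le_of_le (by rintro _ ⟨x, rfl⟩; exact h x)

theorem in_nm (h : ∀ x : X, MulAut.conj x ∈ Γ) (Q : Subgroup X) : In (Nm Γ Q) = normalizer (Q : Set X) := by
  ext x
  rw [mem_normalizer_iff]
  exact ⟨fun hx y => (hx.2 y).symm, fun hx => ⟨h x, fun y => (hx y).symm⟩⟩

/-- the Frattini argument -/
theorem supp_nm [Finite X] (h : ∀ x : X, MulAut.conj x ∈ Γ) [Fact p.Prime] (Q : Sylow p X) :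
    Supp Γ (Nm Γ Q) := by
  refine ⟨fun α hα => hα.1, fun α hα => ?_⟩
  obtain ⟨x, hx⟩ := MulAction.exists_smul_eq X Q (α • Q)
  refine ⟨x, (MulAut.conj x)⁻¹ * α, ⟨mul_mem (inv_mem (h x)) hα, fun y => ?_⟩, by group⟩
  have h1 : α y ∈ ((α • Q : Sylow p X) : Subgroup X) ↔ y ∈ (Q : Subgroup X) := by
    rw [Sylow.pointwise_smul_def]
    exact smul_mem_pointwise_smul_iff (a := α)
  rw [← h1, ← hx, Sylow.coe_subgroup_smul, mem_pointwise_smul_iff_inv_smul_mem]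
  rfl

theorem nm_ne [Fact p.Prime] [Finite X] (s : Sit p X Γ) (Q : Sylow p X) : Nm Γ Q ≠ Γ := by
  intro h
  have hn : (Q : Subgroup X).Normal := ⟨fun y hy x => ((h.ge (s.inn x)).2 y).2 hy⟩
  apply SignalizersComponents.Components.quasisimple_not_isSolvable s.qs
  rcases SignalizersComponents.Components.quasisimple_normal s.qs _ hn with h1 | h1
  · have h2 : IsPGroup p X := (h1 ▸ Q.isPGroup' : IsPGroup p (⊤ : Subgroup X)).of_equiv topEquiv
    have := h2.isNilpotent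
    infer_instance
  · have h2 := s.dvd
    rw [← (Q : Subgroup X).card_mul_index] at h2
    exact absurd h2 (nd_mul' (nd_of_dvd s.cop (card_dvd_of_le h1)) Q.not_dvd_index)

/-- **the small rows** -/
theorem stepSm [Fact p.Prime] (h : StepCyc p) : StepSm p := by
  intro X _ _ Γ s hs
  obtain ⟨⟨γ, hγ⟩, Q, hQ⟩ := hs fun G _ _ Z hZ hi => s.ih G Z hZ (hi.trans_le (index_center_le s.inn))
  refine ⟨Nm Γ Q, Q, fun α hα => hα.1, nm_ne s Q, le_rfl, h X Γ _ s (supp_nm s.inn Q)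
    (cyc_sub (γ := γ) fun α hα => hγ α (s.fix α hα)) fun l hl α hα _ => ?_⟩
  rw [in_nm s.inn]
  exact hQ l hl α (s.fix α hα.1) hα.2

end Cfsg.Agent.MO.E
end

-- part: MO/B/Om
section
/-!
# MO/B: the commutator trace (helper76)

`Om ξ α β m` is the mean of `ξ(1) ξ([u a, v b])` if `a`, `b` act by `α`, `β` and `[a, b] = m`.
* `om_wit` : if `ξ` extends to a group in which `[a, b] = s m` with a scalar `s`, then `s * Om = 1`;
* `om_zero_left`, `om_zero_right` : it vanishes if `ξ` is not invariant;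
* `exists_wit`, `om_res` : restriction to a group on which `ξ` stays irreducible; `om_one` : cyclic quotients.
-/

set_option autoImplicit false
set_option maxHeartbeats 400000

namespace Cfsg.Agent.MO.B

open Cfsg Subgroup Representation Module
open Cfsg.Agent.Characters.Core
open scoped ComplexConjugate

variable {D : Type} [Group D]

/-- the commutator trace -/
noncomputable def Om (ξ : D → ℂ) (α β : D → D) (m : D) : ℂ :=
  ξ 1 * ((Nat.card D : ℂ) ^ 2)⁻¹ * ∑ᶠ u, ∑ᶠ v, ξ (u * α v * m * (β u)⁻¹ * v⁻¹)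

theorem om_def [Fintype D] (ξ : D → ℂ) (α β : D → D) (m : D) :
    Om ξ α β m = ξ 1 * ((Nat.card D : ℂ) ^ 2)⁻¹ * ∑ u, ∑ v, ξ (u * α v * m * (β u)⁻¹ * v⁻¹) := by
  simp only [Om, finsum_eq_sum_of_fintype]

section wit

variable [Fintype D] {W : Type} [Group W] {Ψ : W → ℂ} {j : D →* W}

theorem sum_conj (hΨ : IsCharacter W Ψ) (hj : IsIrrCharacter D fun d => Ψ (j d)) (x y : W) :
    Ψ 1 * ∑ u, Ψ (j u * x * (j u)⁻¹ * y) = Nat.card D * (Ψ x * Ψ y) := by
  obtain ⟨n, τ, rfl⟩ := hΨ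
  obtain ⟨c, h1, h2⟩ := CharactersDeep.Mult.sum_conj_eq_smul (τ.comp j : Representation ℂ D _)
    (isIrreducible_of_isIrrCharacter _ hj) (τ x)
  have h3 := congrArg (fun A => LinearMap.trace ℂ _ (A * τ y)) h2
  simp only [Finset.sum_mul, map_sum, smul_mul_assoc, one_mul, map_smul, smul_eq_mul] at h3
  have h4 : ∑ u, τ.character (j u * x * (j u)⁻¹ * y) = c * τ.character y := by
    refine Eq.trans (Finset.sum_congr rfl fun u _ => ?_) h3
    simp only [character, map_mul, MonoidHom.comp_apply, map_inv]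
  rw [h4, char_one, ← mul_assoc, mul_comm _ c, h1, mul_assoc]
  rfl

theorem sum_coset (hΨ : IsCharacter W Ψ) (hj : IsIrrCharacter D fun d => Ψ (j d)) (b : W) :
    ∑ v, Ψ (j v * b) * Ψ (j v * b)⁻¹ = Nat.card D := by
  have h0 : Ψ 1 ≠ 0 := by simpa using isIrr_apply_one_ne_zero hj
  obtain ⟨n, τ, rfl⟩ := hΨ
  rw [char_one] at h0
  have h1 : ∑ v, linHom τ τ (j v * b) = ((Nat.card D : ℂ) / finrank ℂ (Fin n → ℂ)) •
      (LinearMap.trace ℂ (Fin n → ℂ)).smulRight (1 : Module.End ℂ (Fin n → ℂ)) := by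
    ext1 A
    obtain ⟨c, h1, h2⟩ := CharactersDeep.Mult.sum_conj_eq_smul (τ.comp j : Representation ℂ D _)
      (isIrreducible_of_isIrrCharacter _ hj) (τ b * A * τ b⁻¹)
    rw [LinearMap.trace_mul_comm, ← mul_assoc, ← map_mul, inv_mul_cancel, map_one, one_mul] at h1
    rw [LinearMap.sum_apply, LinearMap.smul_apply, LinearMap.smulRight_apply, smul_smul, div_mul_eq_mul_div, ← h1,
      mul_div_cancel_right₀ _ h0, ← h2]
    refine Finset.sum_congr rfl fun v _ => ?_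
    rw [linHom_apply, mul_inv_rev, map_mul, map_mul, ← map_inv]
    rfl
  have h2 := congrArg (LinearMap.trace ℂ _) h1
  rw [map_sum, map_smul, LinearMap.trace_smulRight, LinearMap.trace_one, smul_eq_mul, div_mul_cancel₀ _ h0] at h2
  rw [← h2]
  exact Finset.sum_congr rfl fun v _ => ((char_linHom τ τ _).trans (mul_comm _ _)).symm

omit [Fintype D] in
/-- **the value from witnesses** -/
theorem om_wit [Finite D] (hΨ : IsCharacter W Ψ) {ξ : D → ℂ} (hξ : IsIrrCharacter D ξ) (hj : ∀ d, Ψ (j d) = ξ d)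
    {a b : W} {α β : D → D} (ha : ∀ u, a * j u = j (α u) * a) (hb : ∀ u, b * j u = j (β u) * b) {m : D} {s : ℂ}
    (hc : ∀ d, Ψ (a * b * a⁻¹ * b⁻¹ * j d) = s * ξ (m * d)) : s * Om ξ α β m = 1 := by
  have := Fintype.ofFinite D
  have hi : IsIrrCharacter D fun d => Ψ (j d) := by rwa [funext hj]
  have h0 : Ψ 1 = ξ 1 := by rw [← hj, map_one]
  have c1 := isCharacter_isClassFunction hΨ
  have h1 : ∀ u v, s * ξ (u * α v * m * (β u)⁻¹ * v⁻¹) = Ψ (j u * (a * (j v * b) * a⁻¹) * (j u)⁻¹ * (j v * b)⁻¹) := by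
    intro u v
    have e1 : j (α v) = a * j v * a⁻¹ := by rw [ha, mul_inv_cancel_right]
    have e2 : j (β u) = b * j u * b⁻¹ := by rw [hb, mul_inv_cancel_right]
    rw [← isIrr_isClassFunction hξ _ (u * α v)⁻¹, show (u * α v)⁻¹ * (u * α v * m * (β u)⁻¹ * v⁻¹) * (u * α v)⁻¹⁻¹ =
      m * ((β u)⁻¹ * v⁻¹ * u * α v) by group, ← hc, ← c1 _ (j (u * α v))]
    simp only [map_mul, map_inv, e1, e2]
    congr 1
    group
  have h2 : Ψ 1 * ∑ u, ∑ v, s * ξ (u * α v * m * (β u)⁻¹ * v⁻¹) = (Nat.card D : ℂ) ^ 2 := by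
    simp only [h1]
    rw [Finset.sum_comm, Finset.mul_sum, Finset.sum_congr rfl fun v _ => sum_conj hΨ hi _ _, ← Finset.mul_sum, sq]
    congr 1
    rw [← sum_coset hΨ hi b]
    exact Finset.sum_congr rfl fun v _ => by rw [c1]
  simp only [← Finset.mul_sum] at h2
  have h3 : (Nat.card D : ℂ) ≠ 0 := card_ne_zero_complex
  rw [om_def, ← h0, ← h2]
  have h4 : Ψ 1 * (s * ∑ u, ∑ v, ξ (u * α v * m * (β u)⁻¹ * v⁻¹)) ≠ 0 := h2 ▸ pow_ne_zero 2 h3
  rw [mul_assoc, mul_left_comm, mul_left_comm s, ← mul_assoc, mul_comm (Ψ 1), mul_assoc, inv_mul_cancel₀ h4]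

end wit

theorem sum_tw [Fintype D] {ξ : D → ℂ} (hξ : IsIrrCharacter D ξ) (β : MulAut D) (h : ¬ ∀ u, ξ (β u) = ξ u) (x y : D) :
    ∑ u, ξ (u * x * (β u)⁻¹ * y) = 0 := by
  have h1 := classInner_irr_ne hξ (isIrr_comp β.toMonoidHom β.surjective hξ) fun e => h fun u => (congrFun e u).symm
  obtain ⟨n, ρ, -, rfl⟩ := hξ
  have h2 := (classInner_character ρ (ρ.comp β.toMonoidHom : Representation ℂ D _)).symm.trans h1
  have h3 : Subsingleton (IntertwiningMap (ρ.comp β.toMonoidHom : Representation ℂ D _) ρ) :=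
    finrank_zero_iff.1 (by exact_mod_cast h2)
  have h4 : ∑ u, ρ u * ρ x * ρ (β u)⁻¹ = 0 := by
    let f : IntertwiningMap (ρ.comp β.toMonoidHom : Representation ℂ D _) ρ := ⟨∑ u, ρ u * ρ x * ρ (β u)⁻¹, fun w => by
      change (∑ u, ρ u * ρ x * ρ (β u)⁻¹) * ρ (β w) = ρ w * ∑ u, ρ u * ρ x * ρ (β u)⁻¹
      rw [Finset.sum_mul, Finset.mul_sum]
      refine (Fintype.sum_equiv (Equiv.mulLeft w) _ _ fun u => ?_).symm
      simp only [Equiv.coe_mulLeft, ← map_mul]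
      congr 1
      rw [map_mul]
      group⟩
    exact congrArg IntertwiningMap.toLinearMap (Subsingleton.elim f 0)
  have h5 := congrArg (fun A => LinearMap.trace ℂ _ (A * ρ y)) h4
  simp only [Finset.sum_mul, map_sum, zero_mul, map_zero, ← map_mul] at h5
  exact h5

theorem om_zero_right [Finite D] {ξ : D → ℂ} (hξ : IsIrrCharacter D ξ) (α : D → D) (β : MulAut D)
    (h : ¬ ∀ u, ξ (β u) = ξ u) (m : D) : Om ξ α β m = 0 := by
  have := Fintype.ofFinite D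
  rw [om_def, Finset.sum_comm, Finset.sum_eq_zero fun v _ => ?_, mul_zero]
  rw [← sum_tw hξ β h (α v * m) v⁻¹]
  exact Finset.sum_congr rfl fun u _ => by rw [mul_assoc u]

theorem om_zero_left [Finite D] {ξ : D → ℂ} (hξ : IsIrrCharacter D ξ) (α : MulAut D) (β : D → D)
    (h : ¬ ∀ u, ξ (α u) = ξ u) (m : D) : Om ξ α β m = 0 := by
  have := Fintype.ofFinite D
  rw [om_def, Finset.sum_eq_zero fun u _ => ?_, mul_zero]
  rw [← sum_tw hξ α h u (m * (β u)⁻¹)]
  refine Fintype.sum_equiv (Equiv.inv D) _ _ fun v => ?_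
  rw [← isIrr_isClassFunction hξ _ v⁻¹, Equiv.inv_apply, map_inv]
  congr 1
  group

/-- an intertwining operator -/
theorem exists_itw [Finite D] {n : ℕ} (ρ : Representation ℂ D (Fin n → ℂ)) (hρ : ρ.IsIrreducible) (α : D →* D)
    (h : ∀ u, ρ.character (α u) = ρ.character u) :
    ∃ T : (Module.End ℂ (Fin n → ℂ))ˣ, ∀ u, T * ρ.asGroupHom u = ρ.asGroupHom (α u) * T := by
  obtain ⟨e⟩ := CharactersDeep.IrrEquiv.exists_equiv_of_character_eq ρ (ρ.comp α : Representation ℂ D _) hρ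
    (funext fun u => (h u).symm)
  refine ⟨LinearMap.GeneralLinearGroup.ofLinearEquiv e.toLinearEquiv, fun u => Units.ext ?_⟩
  exact e.isIntertwining' u

/-- witnesses for an invariant character -/
theorem exists_wit [Finite D] {ξ : D → ℂ} (hξ : IsIrrCharacter D ξ) {α β : MulAut D} (hα : ∀ u, ξ (α u) = ξ u)
    (hβ : ∀ u, ξ (β u) = ξ u) {m : D} (hm : α * β * α⁻¹ * β⁻¹ = MulAut.conj m) :
    ∃ (W : Type) (_ : Group W) (Ψ : W → ℂ) (j : D →* W) (a b : W) (s : ℂ), IsCharacter W Ψ ∧ (∀ d, Ψ (j d) = ξ d) ∧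
      (∀ u, a * j u = j (α u) * a) ∧ (∀ u, b * j u = j (β u) * b) ∧
      ∀ w, Ψ (a * b * a⁻¹ * b⁻¹ * w) = s * Ψ (j m * w) := by
  obtain ⟨n, ρ, hρ, rfl⟩ := hξ
  obtain ⟨a, ha⟩ := exists_itw ρ hρ α.toMonoidHom hα
  obtain ⟨b, hb⟩ := exists_itw ρ hρ β.toMonoidHom hβ
  have k : ∀ (T : (Module.End ℂ (Fin n → ℂ))ˣ) (γ : MulAut D), (∀ u, T * ρ.asGroupHom u = ρ.asGroupHom (γ u) * T) →
      ∀ u, T⁻¹ * ρ.asGroupHom u = ρ.asGroupHom (γ⁻¹ u) * T⁻¹ := fun T γ h u => by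
    rw [inv_mul_eq_iff_eq_mul, ← mul_assoc, h, MulAut.apply_inv_self, mul_inv_cancel_right]
  obtain ⟨s, hs⟩ := CharactersDeep.IrrEquiv.exists_commute_scalar ρ hρ
    ((ρ.asGroupHom m)⁻¹ * (a * b * a⁻¹ * b⁻¹) : (Module.End ℂ (Fin n → ℂ))ˣ) fun u => by
      have h1 : a * b * a⁻¹ * b⁻¹ * ρ.asGroupHom u = ρ.asGroupHom (m * u * m⁻¹) * (a * b * a⁻¹ * b⁻¹) := by
        rw [mul_assoc, k b β hb, ← mul_assoc, mul_assoc _ a⁻¹, k a α ha, ← mul_assoc, mul_assoc a, hb, ← mul_assoc, ha,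
          ← MulAut.conj_apply, ← hm]
        simp only [mul_assoc]
        rfl
      have h2 : (ρ.asGroupHom m)⁻¹ * (a * b * a⁻¹ * b⁻¹) * ρ.asGroupHom u =
          ρ.asGroupHom u * ((ρ.asGroupHom m)⁻¹ * (a * b * a⁻¹ * b⁻¹)) := by
        rw [mul_assoc, h1, map_mul, map_mul, map_inv]
        group
      exact congrArg Units.val h2
  refine ⟨_, inferInstance, Representation.character (Units.coeHom (Module.End ℂ (Fin n → ℂ))), ρ.asGroupHom, a, b, s,
    ⟨n, _, rfl⟩, fun _ => rfl, ha, hb, fun w => ?_⟩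
  have h3 : a * b * a⁻¹ * b⁻¹ * w = ρ.asGroupHom m * ((ρ.asGroupHom m)⁻¹ * (a * b * a⁻¹ * b⁻¹)) * w := by group
  rw [h3]
  change LinearMap.trace ℂ _ ((ρ.asGroupHom m).val * ((ρ.asGroupHom m)⁻¹ * (a * b * a⁻¹ * b⁻¹)).val * w.val) = _
  rw [hs, mul_smul_comm, mul_one, smul_mul_assoc, map_smul]
  rfl

/-- **restriction** -/
theorem om_res [Finite D] {ξ : D → ℂ} (hξ : IsIrrCharacter D ξ) {α β : MulAut D} (hα : ∀ u, ξ (α u) = ξ u)
    (hβ : ∀ u, ξ (β u) = ξ u) {m : D} (hm : α * β * α⁻¹ * β⁻¹ = MulAut.conj m) {E : Type} [Group E] [Finite E]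
    (f : E →* D) (hf : IsIrrCharacter E fun e => ξ (f e)) {α' β' : E → E} (ha : ∀ e, f (α' e) = α (f e))
    (hb : ∀ e, f (β' e) = β (f e)) {n : E} {c : ℂ} (hn : ∀ e, ξ (m * f e) = c * ξ (f (n * e))) :
    Om ξ α β m = c * Om (fun e => ξ (f e)) α' β' n := by
  obtain ⟨W, _, Ψ, j, a, b, s, h1, h2, h3, h4, h5⟩ := exists_wit hξ hα hβ hm
  have k1 := om_wit h1 hξ h2 h3 h4 (m := m) (s := s) fun d => by rw [h5, ← map_mul, h2]
  have k2 := om_wit (j := j.comp f) h1 hf (fun e => h2 _) (a := a) (b := b) (α := α') (β := β')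
    (fun e => by rw [MonoidHom.comp_apply, MonoidHom.comp_apply, ha, h3])
    (fun e => by rw [MonoidHom.comp_apply, MonoidHom.comp_apply, hb, h4]) (m := n) (s := s * c)
    fun e => by rw [MonoidHom.comp_apply, h5, ← map_mul, h2, hn, mul_assoc]
  exact mul_left_cancel₀ (left_ne_zero_of_mul_eq_one k1) (by rw [k1, ← mul_assoc, k2])

end Cfsg.Agent.MO.B
end

-- part: MO/Loc/Om
section
/-!
# MO/Loc: the commutator trace under the correspondences of Clifford and Gallagher (helper28)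

* `sum_dis` : sums over a subgroup with disjoint restrictions vanish;
* `om_ind` : the Clifford correspondence preserves `Om`;
* `om_gal` : the Gallagher correspondence preserves `Om` if the extension extends further.
-/

set_option autoImplicit false
set_option linter.unusedSectionVars false
set_option maxHeartbeats 400000

namespace Cfsg.Agent.MO.Loc

open Cfsg Subgroup Representation Module
open Cfsg.Agent.Characters.Core Cfsg.Agent.H672 Cfsg.Agent.MO.B Cfsg.Agent.MO.A.RS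

variable {D S N Q : Type} [Group D] [Group S] [Group N] [Group Q]

theorem sum_dis [Fintype N] {ψ : S → ℂ} (hψ : IsCharacter S ψ) (i j : N →* S)
    (h : classInner (ψ ∘ i) (ψ ∘ j) = 0) (x : S) : ∑ u, ψ (i u * x * (j u)⁻¹) = 0 := by
  obtain ⟨n, ρ, rfl⟩ := hψ
  have h2 := (classInner_character (ρ.comp i : Representation ℂ N _) (ρ.comp j : Representation ℂ N _)).symm.trans h
  have h3 : Subsingleton (IntertwiningMap (ρ.comp j : Representation ℂ N _) (ρ.comp i : Representation ℂ N _)) :=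
    finrank_zero_iff.1 (by exact_mod_cast h2)
  have h4 : ∑ u, ρ (i u) * ρ x * ρ (j u)⁻¹ = 0 := by
    let f : IntertwiningMap (ρ.comp j : Representation ℂ N _) (ρ.comp i : Representation ℂ N _) :=
      ⟨∑ u, ρ (i u) * ρ x * ρ (j u)⁻¹, fun w => by
        change (∑ u, ρ (i u) * ρ x * ρ (j u)⁻¹) * ρ (j w) = ρ (i w) * ∑ u, ρ (i u) * ρ x * ρ (j u)⁻¹
        rw [Finset.sum_mul, Finset.mul_sum]
        refine (Fintype.sum_equiv (Equiv.mulLeft w) _ _ fun u => ?_).symm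
        simp only [Equiv.coe_mulLeft, ← map_mul]
        congr 1
        rw [map_mul, map_mul]
        group⟩
    exact congrArg IntertwiningMap.toLinearMap (Subsingleton.elim f 0)
  have h5 := congrArg (LinearMap.trace ℂ _) h4
  simp only [map_sum, map_zero, ← map_mul] at h5
  exact h5

variable [Finite D] [Finite S] [Finite N] {n : N →* S} {h : S →* D} {θ : N → ℂ}

/-- the restriction is homogeneous -/
theorem Inr.hom (I : Inr n h θ) {ψ : S → ℂ} (hψ : IsIrrCharacter S ψ) (ho : Over n ψ θ) :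
    ∃ e : ℂ, ∀ x, ψ (n x) = e * θ x := by
  have := I.nrm
  have := Fintype.ofFinite (h.comp n).range
  have h1 := CharDeep.CliffordCorr.restrict_eq_mul_of_invariant (h.comp n).range h.range Inr.le (rg_irr I.inj hψ)
    (rg_irr I.inj2 I.irr) (fun g hg z => congrFun ((I.mem g).1 hg) z) (I.res ho)
  exact ⟨_, fun x => by
    have h2 := h1 ⟨_, x, rfl⟩
    rwa [rg_apply I.inj ψ (n x) _ rfl, rg_apply I.inj2 θ x _ rfl] at h2⟩

omit [Finite D] [Finite S] in
theorem ebz (hi : Function.Injective h) (ψ : S → ℂ) (s : S) : extendByZero h.range (rg hi ψ) (h s) = ψ s :=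
  (extendByZero_of_mem h.range _ (show h s ∈ h.range from ⟨s, rfl⟩)).trans (rg_apply hi ψ s _ rfl)

/-- an automorphism of `D` induces an automorphism of `N` -/
theorem exists_res {f : N →* D} (hi : Function.Injective f) {α : MulAut D} (hα : ∀ x, ∃ y, f y = α (f x)) :
    ∃ γ : MulAut N, ∀ x, f (γ x) = α (f x) := by
  choose g hg using hα
  let g' : N →* N := MonoidHom.mk' g fun a b => hi (by rw [hg, map_mul, map_mul, map_mul, hg, hg])
  have h1 : Function.Injective g' := fun a b e => hi (α.injective (by rw [← hg, ← hg]; exact congrArg f e))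
  exact ⟨MulEquiv.ofBijective g' (Finite.injective_iff_bijective.1 h1), hg⟩

/-- `α` fixes the pair `(N, θ)` -/
structure Fx (f : N →* D) (θ : N → ℂ) (α : MulAut D) : Prop where
  ex : ∀ x, ∃ y, f y = α (f x)
  eq : ∀ x y, f y = α (f x) → θ y = θ x

theorem Inr.van [Fintype N] (I : Inr n h θ) {ψ : S → ℂ} (hψ : IsIrrCharacter S ψ) (ho : Over n ψ θ) {α : MulAut D}
    (hα : Fx (h.comp n) θ α) {u : D} (hu : u ∉ h.range) (g : D) :
    ∑ x, extendByZero h.range (rg I.inj ψ) (u * α (h (n x)) * u⁻¹ * g * (h (n x))⁻¹) = 0 ∧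
    ∑ x, extendByZero h.range (rg I.inj ψ) (h (n x) * g * (u * α (h (n x)) * u⁻¹)⁻¹) = 0 := by
  obtain ⟨γ, hγ⟩ := exists_res I.inj2 hα.ex
  obtain ⟨δ, hδ⟩ := exists_res I.inj2 (α := MulAut.conj u) fun x => I.nrm.conj_mem _ ⟨x, rfl⟩ u
  have h1 : ∀ x, u * α (h (n x)) * u⁻¹ = h (n (δ (γ x))) := fun x =>
    ((hδ (γ x)).trans (congrArg (fun z => u * z * u⁻¹) (hγ x))).symm
  have r : ∀ s, h s ∈ h.range := fun s => ⟨s, rfl⟩
  simp only [h1]
  by_cases hg : g ∈ h.range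
  swap
  · exact ⟨Finset.sum_eq_zero fun x _ => extendByZero_of_notMem _ _ fun e => hg (by
      rwa [mul_mem_cancel_right (inv_mem (r _)), mul_mem_cancel_left (r _)] at e),
      Finset.sum_eq_zero fun x _ => extendByZero_of_notMem _ _ fun e => hg (by
      rwa [mul_mem_cancel_right (inv_mem (r _)), mul_mem_cancel_left (r _)] at e)⟩
  obtain ⟨s, rfl⟩ := hg
  obtain ⟨e, he⟩ := Inr.hom I hψ ho
  have h2 : θ ∘ (γ.trans δ).toMonoidHom ≠ θ := fun e => hu ((I.stab u).2 fun x y e' => by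
    obtain ⟨x, rfl⟩ := γ.surjective x
    rw [show y = δ (γ x) from I.inj2 (e'.trans (hδ _).symm), hα.eq x _ (hγ x)]
    exact congrFun e x)
  have h3 := isIrr_comp (γ.trans δ).toMonoidHom (γ.trans δ).surjective I.irr
  have e1 : ψ ∘ n = e • θ := funext he
  have e2 : ψ ∘ n.comp (γ.trans δ).toMonoidHom = e • θ ∘ (γ.trans δ).toMonoidHom := funext fun x => he _
  have k : ∀ a b c : S, extendByZero h.range (rg I.inj ψ) (h a * h b * (h c)⁻¹) = ψ (a * b * c⁻¹) := fun a b c => by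
    rw [← map_inv, ← map_mul, ← map_mul, ebz]
  simp only [k]
  exact ⟨sum_dis (isIrr_isCharacter hψ) (n.comp (γ.trans δ).toMonoidHom) n (by
      rw [e1, e2, classInner_smul_left, classInner_smul_right, classInner_irr_ne h3 I.irr h2, mul_zero, mul_zero]) s,
    sum_dis (isIrr_isCharacter hψ) n (n.comp (γ.trans δ).toMonoidHom) (by
      rw [e1, e2, classInner_smul_left, classInner_smul_right, classInner_irr_ne I.irr h3 h2.symm, mul_zero, mul_zero]) s⟩

omit [Finite D] [Finite S] [Finite N] in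
theorem sum_van [Fintype N] [Fintype S] (f : N →* S) (F : S → ℂ) (hF : ∀ u, ∑ x, F (f x * u) = 0) : ∑ u, F u = 0 := by
  have h1 : ∑ x : N, ∑ u, F (f x * u) = 0 := by rw [Finset.sum_comm, Finset.sum_eq_zero fun u _ => hF u]
  have h2 : ∀ x : N, ∑ u, F (f x * u) = ∑ u, F u := fun x => Fintype.sum_equiv (Equiv.mulLeft (f x)) _ _ fun _ => rfl
  simpa only [h2, Finset.sum_const, Finset.card_univ, nsmul_eq_mul, mul_eq_zero, Nat.cast_eq_zero, Fintype.card_ne_zero,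
    false_or] using h1

omit [Finite D] [Finite S] in
theorem sum_rng [Fintype D] [Fintype S] (hi : Function.Injective h) (F : D → ℂ) (hF : ∀ u, u ∉ h.range → F u = 0) :
    ∑ u, F u = ∑ s, F (h s) := by
  classical
  rw [← Finset.sum_image (s := Finset.univ) (g := h) fun _ _ _ _ e => hi e]
  exact (Finset.sum_subset (Finset.subset_univ _) fun u _ hu => hF u fun ⟨s, e⟩ =>
    hu (Finset.mem_image.2 ⟨s, Finset.mem_univ _, e⟩)).symm

/-- **the Clifford correspondence** -/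
theorem om_ind (I : Inr n h θ) {ψ : S → ℂ} (hψ : IsIrrCharacter S ψ) (ho : Over n ψ θ) {χ : D → ℂ}
    (hχ : IsIrrCharacter D χ) (h1 : Over h χ ψ) {α β : MulAut D} (hα : Fx (h.comp n) θ α) (hβ : Fx (h.comp n) θ β)
    {α' β' : S → S} (ha : ∀ s, h (α' s) = α (h s)) (hb : ∀ s, h (β' s) = β (h s)) {m : S}
    (hm : α * β * α⁻¹ * β⁻¹ = MulAut.conj (h m)) : Om χ α β (h m) = Om ψ α' β' m := by
  have := Fintype.ofFinite D
  have := Fintype.ofFinite S
  have := Fintype.ofFinite N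
  let F : D → D → ℂ := fun u v => extendByZero h.range (rg I.inj ψ) (u * α v * h m * (β u)⁻¹ * v⁻¹)
  have e0 : ∀ c, α (β c) * h m = h m * β (α c) := fun c => by
    have := DFunLike.congr_fun hm (β (α c))
    simp only [MulAut.mul_apply, MulAut.inv_apply_self, MulAut.conj_apply] at this
    rw [this, inv_mul_cancel_right]
  have e1 : ∀ c, ∑ u, ∑ v, extendByZero h.range (rg I.inj ψ) (c⁻¹ * (u * α v * h m * (β u)⁻¹ * v⁻¹) * c) =
      ∑ u, ∑ v, F u v := fun c =>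
    Fintype.sum_equiv ((Equiv.mulLeft c⁻¹).trans (Equiv.mulRight (α c))) _ _ fun u =>
      Fintype.sum_equiv ((Equiv.mulLeft c⁻¹).trans (Equiv.mulRight (β c))) _ _ fun v => by
        simp only [F, Equiv.trans_apply, Equiv.coe_mulLeft, Equiv.coe_mulRight, map_mul, map_inv]
        congr 1
        calc _ = c⁻¹ * u * α v * (h m * β (α c)) * (β (α c))⁻¹ * (β u)⁻¹ * v⁻¹ * c := by group
          _ = _ := by rw [← e0]; group
  have e2 : ∑ u, ∑ v, F u v = ∑ u, ∑ v, ψ (u * α' v * m * (β' u)⁻¹ * v⁻¹) := by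
    rw [sum_rng I.inj _ fun u hu => sum_van (h.comp n) _ fun v => ?_, Finset.sum_comm,
      sum_rng I.inj _ fun v hv => sum_van n _ fun u => ?_, Finset.sum_comm]
    · refine Finset.sum_congr rfl fun u _ => Finset.sum_congr rfl fun v _ => ?_
      simp only [F, ← ha, ← hb, ← map_inv h, ← map_mul h, ebz]
    · rw [← (Inr.van I hψ ho hβ hv (h u * α v * h m * (β (h u))⁻¹ * v⁻¹)).2]
      refine Finset.sum_congr rfl fun x _ => congrArg (extendByZero h.range (rg I.inj ψ)) ?_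
      simp only [map_mul]
      group
    · rw [← (Inr.van I hψ ho hα hu (u * α v * h m * (β u)⁻¹ * v⁻¹)).1]
      refine Finset.sum_congr rfl fun x _ => congrArg (extendByZero h.range (rg I.inj ψ)) ?_
      simp only [map_mul, MonoidHom.comp_apply]
      group
  have e3 : (Nat.card h.range : ℂ) = Nat.card S := by rw [Nat.card_congr (MonoidHom.ofInjective I.inj).toEquiv]
  have e4 : χ 1 = (Nat.card S : ℂ)⁻¹ * (Nat.card D * ψ 1) := by
    rw [I.eq_ind hψ ho hχ h1, indFun_apply, e3]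
    simp only [mul_one, inv_mul_cancel, Finset.sum_const, Finset.card_univ, nsmul_eq_mul, Nat.card_eq_fintype_card]
    rw [← map_one h, ebz]
  have e5 : ∑ u, ∑ v, χ (u * α v * h m * (β u)⁻¹ * v⁻¹) = (Nat.card S : ℂ)⁻¹ * (Nat.card D * ∑ u, ∑ v, F u v) := by
    rw [I.eq_ind hψ ho hχ h1]
    simp only [indFun_apply, e3, ← Finset.mul_sum]
    rw [Finset.sum_congr rfl fun x _ => Finset.sum_comm, Finset.sum_comm]
    simp only [e1, Finset.sum_const, Finset.card_univ, nsmul_eq_mul, Nat.card_eq_fintype_card]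
  have k1 : (Nat.card D : ℂ) ≠ 0 := card_ne_zero_complex
  have k2 : (Nat.card S : ℂ) ≠ 0 := card_ne_zero_complex
  rw [om_def, om_def, e5, e4, e2]
  field_simp

/-- **the Gallagher correspondence** -/
theorem om_gal [Finite Q] {π : S →* Q} {Θ : S → ℂ} (g : Gal n π Θ θ) {η : Q → ℂ} (hη : IsIrrCharacter Q η)
    {K : Type} [Group K] {Ψ : K → ℂ} (hΨ : IsCharacter K Ψ) {k : S →* K} (hk : ∀ s, Ψ (k s) = Θ s) {a b : K}
    {α β : MulAut S} (ha : ∀ u, a * k u = k (α u) * a) (hb : ∀ u, b * k u = k (β u) * b) {m : S} {t : ℂ}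
    (hc : ∀ d, Ψ (a * b * a⁻¹ * b⁻¹ * k d) = t * Θ (m * d)) {α' β' : MulAut Q} (ha' : ∀ s, π (α s) = α' (π s))
    (hb' : ∀ s, π (β s) = β' (π s)) (hm : α' * β' * α'⁻¹ * β'⁻¹ = MulAut.conj (π m)) :
    t * Om (fun x => Θ x * η (π x)) α β m = Om η α' β' (π m) := by
  have key : ∀ {c : K} {γ : MulAut S} {γ' : MulAut Q}, (∀ u, c * k u = k (γ u) * c) → (∀ s, π (γ s) = γ' (π s)) →
      (¬ ∀ u, η (γ' u) = η u) → ¬ ∀ u, (fun x => Θ x * η (π x)) (γ u) = (fun x => Θ x * η (π x)) u :=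
    fun {c γ γ'} h1 h2 h3 h4 => h3 (congrFun (g.inj (β := fun u => η (γ' u)) fun x => by
      have h5 := h4 x
      simp only at h5
      rwa [← hk (γ x), ← mul_inv_cancel_right (k (γ x)) c, ← h1, isCharacter_isClassFunction hΨ, hk, h2] at h5))
  by_cases h1 : ∀ u, η (α' u) = η u
  swap
  · rw [om_zero_left hη _ _ h1, om_zero_left (g.mul hη) _ _ (key ha ha' h1), mul_zero]
  by_cases h2 : ∀ u, η (β' u) = η u
  swap
  · rw [om_zero_right hη _ _ h2, om_zero_right (g.mul hη) _ _ (key hb hb' h2), mul_zero]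
  obtain ⟨W, _, Φ, j, x, y, s, h3, h4, h5, h6, h7⟩ := exists_wit hη h1 h2 hm
  have k1 := om_wit h3 hη h4 h5 h6 (m := π m) (s := s) fun d => by rw [h7, ← map_mul, h4]
  have k0 : IsCharacter (K × W) fun z => Ψ z.1 * Φ z.2 :=
    isCharacter_mul (isCharacter_comp (MonoidHom.fst K W) hΨ) (isCharacter_comp (MonoidHom.snd K W) h3)
  have k2 := om_wit (j := k.prod (j.comp π)) k0 (g.mul hη) (fun d => by simp only [MonoidHom.prod_apply,
      MonoidHom.comp_apply, hk, h4]) (a := (a, x)) (b := (b, y)) (α := α) (β := β)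
    (fun u => Prod.ext (ha u) (by simp only [MonoidHom.prod_apply, MonoidHom.comp_apply, Prod.snd_mul, h5, ha']))
    (fun u => Prod.ext (hb u) (by simp only [MonoidHom.prod_apply, MonoidHom.comp_apply, Prod.snd_mul, h6, hb']))
    (m := m) (s := s * t) fun d => by
      simp only [MonoidHom.prod_apply, MonoidHom.comp_apply, Prod.snd_mul, Prod.fst_mul, Prod.fst_inv, Prod.snd_inv, hc,
        h7, ← map_mul, h4]
      ring
  exact mul_left_cancel₀ (left_ne_zero_of_mul_eq_one k1) (by rw [k1, ← mul_assoc, k2])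

end Cfsg.Agent.MO.Loc
end

private theorem dce_8db7e891f214 : _root_.True := by
  try have : _root_.True := by simp only [_root_.Cfsg.Agent.MO.A.RS.rg.congr_simp]
  try have : _root_.True := by simp only [_root_.Cfsg.Agent.MO.B.Om.eq_1]
  try have : _root_.True := by simp only [_root_.Cfsg.Agent.MO.C.Side.φ.eq_1]
  try have : _root_.True := by simp only [_root_.Cfsg.Agent.MO.C.Side.cj.eq_1]
  try have : _root_.True := by simp only [_root_.Cfsg.Agent.MO.H.LL.eq_1]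
  exact _root_.True.intro
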